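import Groth.Prelude.Def_EtAcyc
import Groth.Agent.Sga4A.EtSubm
import Groth.Agent.Sga1.EtaleSection
import Mathlib.AlgebraicGeometry.Geometrically.Connected
import Mathlib.AlgebraicGeometry.Morphisms.Flat

/-!
# Zero-acyclic morphisms: submersive morphisms with connected geometric fibres

* `germCompat_of_connected` : if all fibres `X' ×_X Spec Ω` (`Ω` separably closed) are connected then any section of
  `f^* F` over `U ×_X X'` has germs depending only on their image in `U`;
* `exists_pullSect_eq_of_connected` : such a section comes from a section of `F` over `U`;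
* `isZeroAcyclic_of_connected` : `f` is 0-acyclic if it is submersive after étale base change and its geometric
  fibres are connected.
-/

set_option autoImplicit false
universe u

open CategoryTheory CategoryTheory.Limits AlgebraicGeometry Opposite

namespace Groth.Agent.Etbc.H192.ZeroAcyc

open EtDesc Groth.Agent.Sga4A.EtStalk

variable {X' X : Scheme.{u}} (f : X' ⟶ X)

/-- `f` has connected fibres at all geometric points with values in separably closed fields. -/
def SepGeomConnected : Prop :=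
  ∀ (Ω : Type u) [Field Ω] [IsSepClosed Ω] (s : Spec (CommRingCat.of Ω) ⟶ X), ConnectedSpace ↥(pullback s f)

/-- A geometric point with values in a bigger field of an étale scheme above a geometric point factors. -/
theorem exists_lift_of_ext {Ω L : Type u} [Field Ω] [IsSepClosed Ω] [Field L]
    (r : Spec (.of L) ⟶ Spec (.of Ω)) {U : Scheme.{u}} (ξ : Spec (.of Ω) ⟶ U) {W : Scheme.{u}} (a : W ⟶ U)
    [Etale a] (k : Spec (.of L) ⟶ W) (h : k ≫ a = r ≫ ξ) :
    ∃ l : Spec (.of Ω) ⟶ W, l ≫ a = ξ ∧ r ≫ l = k := by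
  let π : pullback a ξ ⟶ Spec (.of Ω) := pullback.snd a ξ
  let kk : Spec (.of L) ⟶ pullback a ξ := pullback.lift k r h
  have h1 : π (kk default) = (𝟙 (Spec (.of Ω)) : Spec (.of Ω) ⟶ Spec (.of Ω)) default := Subsingleton.elim _ _
  obtain ⟨σ, hσ, hσ'⟩ := Scheme.exists_fac_of_etale_of_isSepClosed π (𝟙 (Spec (.of Ω))) (kk default) h1
  have h2 : Set.range kk.base ⊆ Set.range σ.base := by
    rintro _ ⟨z, rfl⟩
    rw [Subsingleton.elim z default]
    exact ⟨default, hσ'⟩
  have h3 := Sga1.EtaleSection.eq_comp_section π σ hσ kk h2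
  have h4 : kk ≫ π = r := pullback.lift_snd _ _ _
  rw [h4] at h3
  refine ⟨σ ≫ pullback.fst a ξ, ?_, ?_⟩
  · rw [Category.assoc, pullback.condition, ← Category.assoc, hσ, Category.id_comp]
  · rw [← Category.assoc, ← h3]
    exact pullback.lift_fst _ _ _

section Fibre

variable (F : Sh X) {U : X.Etale} {Ω : Type u} [Field Ω]

/-- The map from the fibre at `ξ` to `V ×_X X'`, for an étale neighbourhood `(V, l)` of `ξ`. -/
noncomputable def jj (ξ : Spec (.of Ω) ⟶ X) (V : X.Etale) (l : Spec (.of Ω) ⟶ V.left) (hl : l ≫ V.hom = ξ) :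
    pullback ξ f ⟶ ((EtCoh.bc f).obj V).left :=
  pullback.lift (pullback.fst ξ f ≫ l) (pullback.snd ξ f)
    (by rw [Category.assoc, hl, pullback.condition])

@[reassoc]
theorem jj_fst (ξ : Spec (.of Ω) ⟶ X) (V : X.Etale) (l : Spec (.of Ω) ⟶ V.left) (hl : l ≫ V.hom = ξ) :
    jj f ξ V l hl ≫ bcFst f V = pullback.fst ξ f ≫ l := pullback.lift_fst _ _ _

@[reassoc]
theorem jj_hom (ξ : Spec (.of Ω) ⟶ X) (V : X.Etale) (l : Spec (.of Ω) ⟶ V.left) (hl : l ≫ V.hom = ξ) :
    jj f ξ V l hl ≫ ((EtCoh.bc f).obj V).hom = pullback.snd ξ f := pullback.lift_snd _ _ _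

@[reassoc]
theorem jj_map (ξ : Spec (.of Ω) ⟶ X) {V W : X.Etale} (l : Spec (.of Ω) ⟶ V.left) (hl : l ≫ V.hom = ξ)
    (k : Spec (.of Ω) ⟶ W.left) (hk : k ≫ W.hom = ξ) (a : V ⟶ W) (h : l ≫ a.left = k) :
    jj f ξ V l hl ≫ ((EtCoh.bc f).map a).left = jj f ξ W k hk := by
  apply hom_ext_bc
  · rw [Category.assoc, bc_map_fst, jj_fst_assoc, h, jj_fst]
  · rw [Category.assoc, bc_map_hom, jj_hom, jj_hom]

end Fibre

section Main

variable (F : Sh X) {U : X.Etale} (s' : sect ((pullSh f).obj F) ((EtCoh.bc f).obj U))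
  {Ω : Type u} [Field Ω] [IsSepClosed Ω]

omit [IsSepClosed Ω] in
theorem mem_agree_jj {ξ : Spec (.of Ω) ⟶ X} (l : Spec (.of Ω) ⟶ U.left) (hl : l ≫ U.hom = ξ)
    {V : X.Etale} (a : V ⟶ U) (l' : Spec (.of Ω) ⟶ V.left) (hl' : l' ≫ V.hom = ξ) (ha : l' ≫ a.left = l)
    (t : sect F V) {L : Type u} [Field L] [IsSepClosed L] (n : Spec (.of L) ⟶ pullback ξ f) :
    (jj f ξ V l' hl') (n default) ∈ agree ((pullSh f).obj F) (pullSect f F t)
        (((pullSh f).obj F).obj.map ((EtCoh.bc f).map a).op s') ↔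
      pullStk' f F (n ≫ pullback.snd ξ f) ((n ≫ pullback.fst ξ f) ≫ ξ)
          (by rw [Category.assoc, ← pullback.condition, Category.assoc])
          (germ F ((n ≫ pullback.fst ξ f) ≫ l') (by rw [Category.assoc, hl']) t) =
        germ ((pullSh f).obj F) (n ≫ jj f ξ U l hl) (by rw [Category.assoc, jj_hom]) s' := by
  have e0 : (jj f ξ V l' hl') (n default) = (n ≫ jj f ξ V l' hl') default := by
    rw [Scheme.Hom.comp_apply]
  rw [e0, mem_agree_iff]
  have e1 : (n ≫ jj f ξ V l' hl') ≫ bcFst f V = (n ≫ pullback.fst ξ f) ≫ l' := by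
    rw [Category.assoc, jj_fst, ← Category.assoc]
  have e2 : ((n ≫ jj f ξ V l' hl') ≫ bcFst f V) ≫ V.hom = (n ≫ pullback.fst ξ f) ≫ ξ := by
    rw [e1, Category.assoc, hl']
  have h1 := germ_pullSect f F t (n ≫ jj f ξ V l' hl') (n ≫ pullback.snd ξ f)
    (by rw [Category.assoc, jj_hom]) ((n ≫ pullback.fst ξ f) ≫ ξ) e2
  have h2 : germ ((pullSh f).obj F) (n ≫ jj f ξ V l' hl')
      (by rw [Category.assoc, jj_hom] : _ = n ≫ pullback.snd ξ f)
      (((pullSh f).obj F).obj.map ((EtCoh.bc f).map a).op s') =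
      germ ((pullSh f).obj F) (n ≫ jj f ξ U l hl) (by rw [Category.assoc, jj_hom]) s' := by
    apply germ_res'
    rw [Category.assoc, jj_map f ξ l' hl' l hl a ha]
  have h3 : germ F ((n ≫ jj f ξ V l' hl') ≫ bcFst f V) e2 t =
      germ F ((n ≫ pullback.fst ξ f) ≫ l') (by rw [Category.assoc, hl']) t := by
    simp only [e1]
  rw [h3] at h1
  rw [← h1, ← h2]
  have hq : (n ≫ jj f ξ V l' hl') ≫ ((EtCoh.bc f).obj V).hom = n ≫ pullback.snd ξ f := by
    rw [Category.assoc, jj_hom]
  constructor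
  · intro h
    have := congrArg (castStk ((pullSh f).obj F) hq) h
    rwa [castStk_germ, castStk_germ] at this
  · intro h
    apply castStk_injective _ hq
    rwa [castStk_germ, castStk_germ]

/-- Every geometric point of the fibre lies in one of the agreement loci. -/
theorem exists_agree {ξ : Spec (.of Ω) ⟶ X} (l : Spec (.of Ω) ⟶ U.left) (hl : l ≫ U.hom = ξ)
    {L : Type u} [Field L] [IsSepClosed L] (n : Spec (.of L) ⟶ pullback ξ f) :
    ∃ (V : X.Etale) (a : V ⟶ U) (l' : Spec (.of Ω) ⟶ V.left) (hl' : l' ≫ V.hom = ξ)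
      (_ : l' ≫ a.left = l) (t : sect F V),
      pullStk' f F (n ≫ pullback.snd ξ f) ((n ≫ pullback.fst ξ f) ≫ ξ)
          (by rw [Category.assoc, ← pullback.condition, Category.assoc])
          (germ F ((n ≫ pullback.fst ξ f) ≫ l') (by rw [Category.assoc, hl']) t) =
        germ ((pullSh f).obj F) (n ≫ jj f ξ U l hl) (by rw [Category.assoc, jj_hom]) s' := by
  obtain ⟨V₀, n₀, hn₀, t₀, ht₀⟩ := exists_germ F
    ((pullStk' f F (n ≫ pullback.snd ξ f) ((n ≫ pullback.fst ξ f) ≫ ξ)
      (by rw [Category.assoc, ← pullback.condition, Category.assoc])).symm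
      (germ ((pullSh f).obj F) (n ≫ jj f ξ U l hl) (by rw [Category.assoc, jj_hom]) s'))
  obtain ⟨W, a, b, k, hk, ha, hb⟩ := exists_common_nhd ((n ≫ pullback.fst ξ f) ≫ l)
    (by rw [Category.assoc, hl]) n₀ hn₀
  obtain ⟨l', h1, h2⟩ := exists_lift_of_ext (n ≫ pullback.fst ξ f) l a.left k ha
  have w : a.left ≫ U.hom = W.hom := Over.w a.hom
  have hl' : l' ≫ W.hom = ξ := by rw [← w, ← Category.assoc, h1, hl]
  refine ⟨W, a, l', hl', h1, F.obj.map b.op t₀, ?_⟩
  have h3 : germ F ((n ≫ pullback.fst ξ f) ≫ l') (by rw [Category.assoc, hl']) (F.obj.map b.op t₀) =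
      germ F n₀ hn₀ t₀ := germ_res' F b _ _ _ _ (by rw [h2, hb]) t₀
  rw [h3, ht₀, Equiv.apply_symm_apply]

/-- Uniqueness: the germ at the small field is determined by the germ over the bigger field. -/
theorem germ_eq_of_ext {ξ : Spec (.of Ω) ⟶ X} {V₁ V₂ : X.Etale} (l₁ : Spec (.of Ω) ⟶ V₁.left)
    (h₁ : l₁ ≫ V₁.hom = ξ) (l₂ : Spec (.of Ω) ⟶ V₂.left) (h₂ : l₂ ≫ V₂.hom = ξ) (t₁ : sect F V₁)
    (t₂ : sect F V₂) {L : Type u} [Field L] [IsSepClosed L] (r : Spec (.of L) ⟶ Spec (.of Ω))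
    (h : germ F (r ≫ l₁) (by rw [Category.assoc, h₁] : _ = r ≫ ξ) t₁ =
      germ F (r ≫ l₂) (by rw [Category.assoc, h₂]) t₂) :
    germ F l₁ h₁ t₁ = germ F l₂ h₂ t₂ := by
  obtain ⟨W, a, b, k, hk, ha, hb, e⟩ := (germ_eq_germ_iff F _ _ _ _ _ _).1 h
  obtain ⟨l, hla, hlk⟩ := exists_lift_of_ext r l₁ a.left k ha
  have w : a.left ≫ V₁.hom = W.hom := Over.w a.hom
  rw [germ_eq_germ_iff]
  refine ⟨W, a, b, l, by rw [← w, ← Category.assoc, hla, h₁], hla, ?_, e⟩
  have hepi : Epi r := by
    have : Flat r := by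
      obtain ⟨φ, rfl⟩ := Spec.map_surjective r
      rw [Flat.SpecMap_iff]
      algebraize [φ.hom]
      exact (inferInstance : Module.Flat Ω L)
    have : Surjective r := ⟨fun x => ⟨default, Subsingleton.elim _ _⟩⟩
    exact Flat.epi_of_flat_of_surjective r
  rw [← cancel_epi r, ← Category.assoc, hlk, hb]

variable {f}

/-- Sections of `f^* F` over `U ×_X X'` have germs depending only on their image in `U` if the geometric
fibres of `f` are connected. -/
theorem germCompat_of_connected (hf : SepGeomConnected f) : GermCompat f F s' := by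
  intro Ω _ _ m₁ m₂ ξ e h₁ h₂
  -- reduce to `ξ = l ≫ U.hom`
  obtain ⟨l, hl⟩ : ∃ l : Spec (.of Ω) ⟶ U.left, l = m₁ ≫ bcFst f U := ⟨_, rfl⟩
  have hlξ : l ≫ U.hom = ξ := by rw [hl, Category.assoc, bc_condition, ← h₁, Category.assoc]
  let n : ∀ (m : Spec (.of Ω) ⟶ ((EtCoh.bc f).obj U).left)
      (_ : (m ≫ ((EtCoh.bc f).obj U).hom) ≫ f = ξ), Spec (.of Ω) ⟶ pullback ξ f :=
    fun m h => pullback.lift (𝟙 _) (m ≫ ((EtCoh.bc f).obj U).hom) (by rw [h, Category.id_comp])
  have hn1 : ∀ m h, n m h ≫ pullback.fst ξ f = 𝟙 _ := fun m h => pullback.lift_fst _ _ _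
  have hn2 : ∀ m h, n m h ≫ pullback.snd ξ f = m ≫ ((EtCoh.bc f).obj U).hom :=
    fun m h => pullback.lift_snd _ _ _
  -- the germ of `s'` at `m` expressed via `n m`
  let A : Stk F ξ → Set ↥(pullback ξ f) := fun σ => {z | ∃ (V : X.Etale) (a : V ⟶ U)
    (l' : Spec (.of Ω) ⟶ V.left) (hl' : l' ≫ V.hom = ξ) (_ : l' ≫ a.left = l) (t : sect F V),
    germ F l' hl' t = σ ∧ (jj f ξ V l' hl') z ∈ agree ((pullSh f).obj F) (pullSect f F t)
        (((pullSh f).obj F).obj.map ((EtCoh.bc f).map a).op s')}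
  have hopen : ∀ σ, IsOpen (A σ) := by
    intro σ
    rw [isOpen_iff_forall_mem_open]
    rintro z ⟨V, a, l', hl', ha, t, ht, hz⟩
    refine ⟨(jj f ξ V l' hl') ⁻¹' agree ((pullSh f).obj F) (pullSect f F t)
        (((pullSh f).obj F).obj.map ((EtCoh.bc f).map a).op s'), ?_, ?_, hz⟩
    · intro y hy
      exact ⟨V, a, l', hl', ha, t, ht, hy⟩
    · exact (isOpen_agree _ _ _).preimage (jj f ξ V l' hl').continuous
  have hcover : ∀ z, ∃ σ, z ∈ A σ := by
    intro z
    obtain ⟨L, _, _, k, rfl⟩ := exists_geomPoint _ z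
    obtain ⟨V, a, l', hl', ha, t, h⟩ := exists_agree f F s' l hlξ k
    exact ⟨_, V, a, l', hl', ha, t, rfl, (mem_agree_jj f F s' l hlξ a l' hl' ha t k).2 h⟩
  have hdisj : ∀ z σ τ, z ∈ A σ → z ∈ A τ → σ = τ := by
    rintro z σ τ ⟨V₁, a₁, l₁, hl₁, ha₁, t₁, rfl, hz₁⟩ ⟨V₂, a₂, l₂, hl₂, ha₂, t₂, rfl, hz₂⟩
    obtain ⟨L, _, _, k, rfl⟩ := exists_geomPoint _ z
    rw [mem_agree_jj f F s' l hlξ a₁ l₁ hl₁ ha₁ t₁ k] at hz₁
    rw [mem_agree_jj f F s' l hlξ a₂ l₂ hl₂ ha₂ t₂ k] at hz₂
    exact germ_eq_of_ext F l₁ hl₁ l₂ hl₂ t₁ t₂ (k ≫ pullback.fst ξ f)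
      ((pullStk' f F _ _ _).injective (hz₁.trans hz₂.symm))
  have hclopen : ∀ σ, IsClopen (A σ) := by
    intro σ
    refine ⟨?_, hopen σ⟩
    rw [← isOpen_compl_iff]
    have : (A σ)ᶜ = ⋃ τ ∈ {τ | τ ≠ σ}, A τ := by
      ext z
      simp only [Set.mem_compl_iff, Set.mem_iUnion, Set.mem_ofPred_eq, exists_prop]
      constructor
      · intro hz
        obtain ⟨τ, hτ⟩ := hcover z
        exact ⟨τ, fun h => hz (h ▸ hτ), hτ⟩
      · rintro ⟨τ, hτ, hz⟩ hz'
        exact hτ (hdisj z τ σ hz hz')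
    rw [this]
    exact isOpen_biUnion fun τ _ => hopen τ
  have hconn : ConnectedSpace ↥(pullback ξ f) := hf Ω ξ
  -- the class of the point `m`
  have hval : ∀ (m : Spec (.of Ω) ⟶ ((EtCoh.bc f).obj U).left)
      (h : (m ≫ ((EtCoh.bc f).obj U).hom) ≫ f = ξ) (hm : m ≫ bcFst f U = l) (σ : Stk F ξ),
      (n m h) default ∈ A σ → (pullStk' f F _ ξ h).symm (germ ((pullSh f).obj F) m rfl s') = σ := by
    rintro m h hm σ ⟨V, a, l', hl', ha, t, rfl, hz⟩
    rw [mem_agree_jj f F s' l hlξ a l' hl' ha t (n m h)] at hz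
    rw [Equiv.symm_apply_eq]
    have hm' : n m h ≫ jj f ξ U l hlξ = m := by
      have e1 : (n m h ≫ jj f ξ U l hlξ) ≫ bcFst f U = m ≫ bcFst f U := by
        rw [Category.assoc, jj_fst, ← Category.assoc, hn1 m h, Category.id_comp, hm]
      have e2 : (n m h ≫ jj f ξ U l hlξ) ≫ ((EtCoh.bc f).obj U).hom = m ≫ ((EtCoh.bc f).obj U).hom := by
        rw [Category.assoc, jj_hom, hn2 m h]
      exact hom_ext_bc f e1 e2
    have key : ∀ (r : Spec (.of Ω) ⟶ Spec (.of Ω)) (_ : r = 𝟙 _) (ζ : Spec (.of Ω) ⟶ X')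
        (hζ : m ≫ ((EtCoh.bc f).obj U).hom = ζ) (M : Spec (.of Ω) ⟶ ((EtCoh.bc f).obj U).left)
        (hM : M = m) (q1 : ζ ≫ f = r ≫ ξ) (q2 : (r ≫ l') ≫ V.hom = r ≫ ξ)
        (q3 : M ≫ ((EtCoh.bc f).obj U).hom = ζ)
        (_ : pullStk' f F ζ (r ≫ ξ) q1 (germ F (r ≫ l') q2 t) = germ ((pullSh f).obj F) M q3 s'),
        germ ((pullSh f).obj F) m rfl s' =
          pullStk' f F (m ≫ ((EtCoh.bc f).obj U).hom) ξ h (germ F l' hl' t) := by
      rintro r rfl ζ rfl M rfl q1 q2 q3 hh
      rw [← hh]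
      have := pullStk'_castStk f F (M ≫ ((EtCoh.bc f).obj U).hom) (𝟙 _ ≫ ξ) ξ h (Category.id_comp ξ)
        (germ F (𝟙 _ ≫ l') q2 t)
      rw [← this, castStk_germ]
      simp only [Category.id_comp]
    exact key _ (hn1 m h) _ (hn2 m h).symm _ hm' _ _ _ hz
  obtain ⟨σ, hσ⟩ := hcover ((n m₁ h₁) default)
  have huniv : A σ = Set.univ := (hclopen σ).eq_univ ⟨_, hσ⟩
  have hm2 : (n m₂ h₂) default ∈ A σ := by rw [huniv]; trivial
  rw [hval m₁ h₁ hl.symm σ hσ, hval m₂ h₂ (by rw [← e, hl]) σ hm2]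

end Main

variable {f}

/-- Sections of `f^* F` over `U ×_X X'` come from sections of `F` over `U`. -/
theorem exists_pullSect_eq_of_connected (hs : EtSubmersive f) (hf : SepGeomConnected f) (F : Sh X) {U : X.Etale}
    (s' : sect ((pullSh f).obj F) ((EtCoh.bc f).obj U)) : ∃ s : sect F U, pullSect f F s = s' :=
  exists_pullSect_eq f hs F s' (germCompat_of_connected F s' hf)

theorem pullSect_bijective_of_connected (hs : EtSubmersive f) (hf : SepGeomConnected f) (F : Sh X) (U : X.Etale) :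
    Function.Bijective (pullSect f F (U := U)) :=
  ⟨pullSect_injective f F (hs U).surjective, exists_pullSect_eq_of_connected hs hf F⟩

theorem isIso_unit_of_connected (hs : EtSubmersive f) (hf : SepGeomConnected f) (F : Sh X) :
    IsIso ((adjSh f).unit.app F) := by
  apply isIso_of_bijective
  intro U
  exact pullSect_bijective_of_connected hs hf F U

/-- Global sections: `Γ(X, F) → Γ(X', f^* F)` is bijective. -/
theorem secPull_bijective_of_connected (hs : EtSubmersive f) (hf : SepGeomConnected f) (F : Sh X) :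
    Function.Bijective (secPull f F) := by
  have h1 := pullSect_bijective_of_connected hs hf F (EtCoh.top X)
  have h2 : Function.Bijective (((pullSh f).obj F).obj.map (EtCore.bcTopIso f).inv.op) :=
    (isIso_iff_bijective _).1 inferInstance
  exact h2.comp h1

section ZeroAcyclic

open EtAcyc

variable {X Y : Scheme.{u}} (g : X ⟶ Y)

theorem isQuotientMap_fst_of (h : ∀ V : Y.Etale, Topology.IsQuotientMap (pullback.fst V.hom g))
    {T : Scheme.{u}} (a : T ⟶ Y) [Etale a] : Topology.IsQuotientMap (pullback.fst a g) :=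
  h (Scheme.Etale.mk a)

/-- Submersiveness is stable under étale base change. -/
theorem etSubmersive_prj (hg : EtSubmersive g) (V : Y.Etale) : EtSubmersive (prj g V) := by
  intro U
  have hU : Etale U.hom := inferInstance
  have hV : Etale V.hom := inferInstance
  have h1 : Topology.IsQuotientMap (pullback.fst (U.hom ≫ V.hom) g) :=
    isQuotientMap_fst_of g hg (U.hom ≫ V.hom)
  have h2 : Topology.IsQuotientMap (pullbackRightPullbackFstIso V.hom g U.hom).hom :=
    (Scheme.homeoOfIso (pullbackRightPullbackFstIso V.hom g U.hom)).isQuotientMap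
  have h3 := h1.comp h2
  have h4 : bcFst (prj g V) U =
      (pullbackRightPullbackFstIso V.hom g U.hom).hom ≫ pullback.fst (U.hom ≫ V.hom) g :=
    (pullbackRightPullbackFstIso_hom_fst V.hom g U.hom).symm
  rw [h4]
  exact h3

theorem sepGeomConnected_prj (hg : SepGeomConnected g) (V : Y.Etale) : SepGeomConnected (prj g V) := by
  intro Ω _ _ s
  have := hg Ω (s ≫ V.hom)
  exact (Scheme.homeoOfIso (pullbackRightPullbackFstIso V.hom g s)).symm.surjective.connectedSpace
    (Scheme.homeoOfIso (pullbackRightPullbackFstIso V.hom g s)).symm.continuous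

/-- **Criterion**: a morphism which is submersive after étale base change and whose geometric fibres are
connected is 0-acyclic. -/
theorem isZeroAcyclic_of_connected (hs : EtSubmersive g) (hc : SepGeomConnected g) : IsZeroAcyclic g :=
  fun V F => isIso_unit_of_connected (etSubmersive_prj g hs V) (sepGeomConnected_prj g hc V) F

theorem sepGeomConnected_of_geometricallyConnected [GeometricallyConnected g] : SepGeomConnected g :=
  fun Ω _ _ s => pullback_of_geometrically' GeometricallyConnected.geometrically_connectedSpace Ω s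

theorem sepGeomConnected_of_right
    (h : ∀ (Ω : Type u) [Field Ω] [IsSepClosed Ω] (s : Spec (CommRingCat.of Ω) ⟶ Y),
      ConnectedSpace ↥(pullback g s)) : SepGeomConnected g := by
  intro Ω _ _ s
  have := h Ω s
  exact (Scheme.homeoOfIso (pullbackSymmetry g s)).surjective.connectedSpace
    (Scheme.homeoOfIso (pullbackSymmetry g s)).continuous

/-- It is enough to look at algebraically closed fields. -/
theorem sepGeomConnected_of_algClosed
    (h : ∀ (Ω : Type u) [Field Ω] [IsAlgClosed Ω] (s : Spec (CommRingCat.of Ω) ⟶ Y),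
      ConnectedSpace ↥(pullback s g)) : SepGeomConnected g := by
  intro Ω _ _ s
  let a : Spec (.of (AlgebraicClosure Ω)) ⟶ Spec (.of Ω) :=
    Spec.map (CommRingCat.ofHom (algebraMap Ω (AlgebraicClosure Ω)))
  have h1 := h (AlgebraicClosure Ω) (a ≫ s)
  have ha : Surjective a := ⟨fun x => ⟨default, Subsingleton.elim _ _⟩⟩
  let r : pullback (a ≫ s) g ⟶ pullback s g :=
    pullback.lift (pullback.fst _ _ ≫ a) (pullback.snd _ _) (by rw [Category.assoc, pullback.condition])
  have hp : IsPullback r (pullback.fst (a ≫ s) g) (pullback.fst s g) a := by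
    refine IsPullback.of_right (h₁₂ := pullback.snd s g) (v₁₃ := g) (h₂₂ := s) ?_
      (pullback.lift_fst _ _ _) (IsPullback.of_hasPullback s g).flip
    rw [show r ≫ pullback.snd s g = pullback.snd (a ≫ s) g from pullback.lift_snd _ _ _]
    exact (IsPullback.of_hasPullback (a ≫ s) g).flip
  have hr : Surjective r := MorphismProperty.of_isPullback hp.flip ha
  exact hr.surj.connectedSpace r.continuous

theorem etSubmersive_of_flat [Flat g] [QuasiCompact g] [Surjective g] : EtSubmersive g := by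
  intro U
  have h1 : Flat (bcFst g U) := by
    have : Flat (pullback.fst U.hom g) := inferInstance
    exact this
  have h2 : QuasiCompact (bcFst g U) := by
    have : QuasiCompact (pullback.fst U.hom g) := inferInstance
    exact this
  have h3 : Surjective (bcFst g U) := by
    have : Surjective (pullback.fst U.hom g) := inferInstance
    exact this
  exact Flat.isQuotientMap_of_surjective (bcFst g U)

/-- A flat quasi-compact surjective morphism with connected geometric fibres is 0-acyclic. -/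
theorem isZeroAcyclic_of_flat [Flat g] [QuasiCompact g] [Surjective g] (hc : SepGeomConnected g) :
    IsZeroAcyclic g :=
  isZeroAcyclic_of_connected g (etSubmersive_of_flat g) hc

theorem isZeroAcyclic_of_universallyOpen [UniversallyOpen g] [Surjective g] (hc : SepGeomConnected g) :
    IsZeroAcyclic g :=
  isZeroAcyclic_of_connected g (etSubmersive_of_universallyOpen g) hc

theorem isZeroAcyclic_of_universallyClosed [UniversallyClosed g] [Surjective g] (hc : SepGeomConnected g) :
    IsZeroAcyclic g :=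
  isZeroAcyclic_of_connected g (etSubmersive_of_universallyClosed g) hc

end ZeroAcyclic

end Groth.Agent.Etbc.H192.ZeroAcyc
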