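import Groth.Agent.Etbc.H192.IntClosed
import Groth.Agent.Pi1C.IndEtaleIC
import Groth.Agent.UnramB.IdemConn

/-!
# Idempotents of `K ⊗[A] B` for `B` ind-étale over `A ⊗[R] C`

`R` Noetherian, `C` flat over `R` with reduced fibres, `A` a local `R`-algebra (not Noetherian) with separably closed
residue field, `B` local and flat over `E = A ⊗[R] C` such that integral closures commute with the base change
`E → B` (for instance: ind-étale), `A'` a local integrally closed domain integral over `A` with fraction field `K`.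
Then the idempotents of `K ⊗[A] B` are trivial.
-/

set_option autoImplicit false

universe u

open TensorProduct IsLocalRing

namespace Groth.Agent.Etbc.H192.ConnAlg

open NormalIdem IntClosed

/-- Integral closures commute with the base change `E → B`. -/
def ICBC (E B : Type u) [CommRing E] [CommRing B] [Algebra E B] : Prop :=
  ∀ (T : Type u) [CommRing T] [Algebra E T], Function.Bijective (TensorProduct.toIntegralClosure E B T)

theorem ICBC.of_lazard {E B : Type u} [CommRing E] [CommRing B] [Algebra E B]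
    (h : Groth.Agent.Pi1C.IndEtaleWE.Lazard E B) : ICBC E B := fun T _ _ =>
  Groth.Agent.Pi1C.IndEtaleIC.toIntegralClosure_bijective h T

theorem ICBC.of_isLocalization {E B : Type u} [CommRing E] [CommRing B] [Algebra E B] (M : Submonoid E)
    [IsLocalization M B] : ICBC E B := fun _ _ _ =>
  TensorProduct.toIntegralClosure_bijective_of_isLocalization M

theorem ICBC.trans {E S B : Type u} [CommRing E] [CommRing S] [CommRing B] [Algebra E S] [Algebra E B]
    [Algebra S B] [IsScalarTower E S B] (h : ICBC E S) (h' : ICBC S B) : ICBC E B := fun T _ _ =>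
  TensorProduct.toIntegralClosure_bijective_of_tower (h T) (h' _)

section

variable {R C A A' K : Type u} [CommRing R] [CommRing C] [Algebra R C]
  [CommRing A] [Algebra R A] [CommRing A'] [Algebra A A'] [Algebra R A'] [IsScalarTower R A A']
  [Field K] [Algebra A' K] [Algebra A K] [IsScalarTower A A' K] [Algebra R K] [IsScalarTower R A' K]

variable (R C A K) in
/-- `(A ⊗ C) ⊗ K → K ⊗ C`. -/
noncomputable def al [IsScalarTower R A K] : (A ⊗[R] C) ⊗[A] K ≃+* K ⊗[R] C :=
  ((Algebra.TensorProduct.comm A (A ⊗[R] C) K).toRingEquiv).trans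
    (Algebra.TensorProduct.cancelBaseChange R A K K C).toRingEquiv

omit [CommRing A'] [Algebra A A'] [Algebra R A'] [IsScalarTower R A A'] [Algebra A' K] [IsScalarTower A A' K]
  [IsScalarTower R A' K] in
theorem al_tmul [IsScalarTower R A K] (a : A) (c : C) (k : K) :
    al R C A K ((a ⊗ₜ c) ⊗ₜ k) = (a • k) ⊗ₜ c :=
  Algebra.TensorProduct.cancelBaseChange_tmul R A K K C k a c

variable (R C A A') in
/-- `(A ⊗ C) ⊗ A' → A' ⊗ C`. -/
noncomputable def al' : (A ⊗[R] C) ⊗[A] A' ≃+* A' ⊗[R] C :=
  ((Algebra.TensorProduct.comm A (A ⊗[R] C) A').toRingEquiv).trans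
    (Algebra.TensorProduct.cancelBaseChange R A A' A' C).toRingEquiv

theorem al'_tmul (a : A) (c : C) (k : A') :
    al' R C A A' ((a ⊗ₜ c) ⊗ₜ k) = (a • k) ⊗ₜ c :=
  Algebra.TensorProduct.cancelBaseChange_tmul R A A' A' C k a c

variable (R C A A' K) in
/-- `(A ⊗ C) ⊗ A' → (A ⊗ C) ⊗ K`. -/
noncomputable def ext : (A ⊗[R] C) ⊗[A] A' →ₐ[A ⊗[R] C] (A ⊗[R] C) ⊗[A] K :=
  Algebra.TensorProduct.map (AlgHom.id (A ⊗[R] C) (A ⊗[R] C)) (IsScalarTower.toAlgHom A A' K)

theorem incl_al' [IsScalarTower R A K] (t : (A ⊗[R] C) ⊗[A] A') :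
    incl R C A' K (al' R C A A' t) = al R C A K (ext R C A A' K t) := by
  induction t using TensorProduct.induction_on with
  | zero => rw [map_zero, map_zero, map_zero, map_zero]
  | tmul x k =>
    induction x using TensorProduct.induction_on with
    | zero => rw [TensorProduct.zero_tmul, map_zero, map_zero, map_zero, map_zero]
    | tmul a c =>
      rw [al'_tmul, incl_tmul]
      have h1 : ext R C A A' K ((a ⊗ₜ c) ⊗ₜ k) = (a ⊗ₜ c) ⊗ₜ algebraMap A' K k := rfl
      rw [h1, al_tmul, Algebra.smul_def, map_mul, Algebra.smul_def, ← IsScalarTower.algebraMap_apply]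
    | add x y hx hy => rw [TensorProduct.add_tmul, map_add, map_add, map_add, map_add, hx, hy]
  | add x y hx hy => rw [map_add, map_add, map_add, map_add, hx, hy]

/-- Elements of `E ⊗[A] K` (`E = A ⊗[R] C`) integral over `E` come from `E ⊗[A] A'`. -/
theorem exists_of_isIntegral [IsNoetherianRing R] [Module.Flat R C] (hC : RedFib R C) [IsDomain A'] [IsLocalRing A']
    [IsIntegrallyClosed A'] [IsFractionRing A' K] (t : (A ⊗[R] C) ⊗[A] K) (ht : IsIntegral (A ⊗[R] C) t) :
    ∃ t' : (A ⊗[R] C) ⊗[A] A', ext R C A A' K t' = t := by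
  have : IsScalarTower R A K := IsScalarTower.of_algebraMap_eq fun r => by
    rw [IsScalarTower.algebraMap_apply R A' K, IsScalarTower.algebraMap_apply R A A',
      ← IsScalarTower.algebraMap_apply A A' K]
  obtain ⟨F, hF, hFt⟩ := ht
  let g : A ⊗[R] C →+* A' ⊗[R] C :=
    (Algebra.TensorProduct.map (IsScalarTower.toAlgHom R A A') (AlgHom.id R C)).toRingHom
  have hg : (incl R C A' K).toRingHom.comp g =
      (al R C A K : (A ⊗[R] C) ⊗[A] K →+* K ⊗[R] C).comp (algebraMap (A ⊗[R] C) ((A ⊗[R] C) ⊗[A] K)) := by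
    ext x
    · change incl R C A' K ((algebraMap A A' x) ⊗ₜ 1) = al R C A K ((x ⊗ₜ 1) ⊗ₜ 1)
      rw [incl_tmul, al_tmul, Algebra.smul_def, mul_one, ← IsScalarTower.algebraMap_apply]
    · change incl R C A' K ((algebraMap A A' 1) ⊗ₜ x) = al R C A K ((1 ⊗ₜ x) ⊗ₜ 1)
      rw [incl_tmul, al_tmul, one_smul, map_one, map_one]
  obtain ⟨s, hs⟩ := mem_range_of_isIntegralElem (A' := A') hC (al R C A K t) (by
    refine ⟨F.map g, hF.map g, ?_⟩
    rw [Polynomial.eval₂_map, hg]
    have h1 := Polynomial.hom_eval₂ F (algebraMap (A ⊗[R] C) ((A ⊗[R] C) ⊗[A] K))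
      (al R C A K : (A ⊗[R] C) ⊗[A] K →+* K ⊗[R] C) t
    rw [hFt, map_zero] at h1
    exact h1.symm)
  refine ⟨(al' R C A A').symm s, (al R C A K).injective ?_⟩
  rw [← incl_al', RingEquiv.apply_symm_apply]
  exact hs

variable {B : Type u} [CommRing B] [IsLocalRing B] [Algebra A B] [Algebra (A ⊗[R] C) B]
  [IsScalarTower A (A ⊗[R] C) B]

/-- The idempotents of `K ⊗[A] B` are trivial. -/
theorem eq_zero_or_one [IsNoetherianRing R] [Module.Flat R C] (hC : RedFib R C) [IsDomain A'] [IsLocalRing A']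
    [IsIntegrallyClosed A'] [IsFractionRing A' K] [IsLocalRing A] [IsSepClosed (ResidueField A)]
    [Algebra.IsIntegral A A'] [IsLocalHom (algebraMap A B)] [Module.Flat A B]
    (hB : ICBC (A ⊗[R] C) B) (e : K ⊗[A] B) (he : IsIdempotentElem e) : e = 0 ∨ e = 1 := by
  let E := A ⊗[R] C
  let Θ : B ⊗[E] (E ⊗[A] K) ≃ₐ[B] B ⊗[A] K := Algebra.TensorProduct.cancelBaseChange A E B B K
  let cK : B ⊗[A] K ≃ₐ[A] K ⊗[A] B := Algebra.TensorProduct.comm A B K
  let ι : A' ⊗[A] B →ₐ[A] K ⊗[A] B :=
    Algebra.TensorProduct.map (IsScalarTower.toAlgHom A A' K) (AlgHom.id A B)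
  have hι : Function.Injective ι :=
    Module.Flat.rTensor_preserves_injective_linearMap (M := B) (IsScalarTower.toAlgHom A A' K).toLinearMap
      (IsFractionRing.injective A' K)
  -- `e` lies in the image of `A' ⊗ B`
  have key : ∃ e' : A' ⊗[A] B, ι e' = e := by
    let e₁ : B ⊗[E] (E ⊗[A] K) := Θ.symm (cK.symm e)
    have he₁ : IsIntegral B e₁ := by
      have h1 : IsIdempotentElem e₁ := by
        change e₁ * e₁ = e₁
        simp only [e₁]
        rw [← map_mul, ← map_mul, he.eq]
      refine ⟨Polynomial.X ^ 2 - Polynomial.X, ?_, ?_⟩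
      · exact Polynomial.monic_X_pow_sub (by simp)
      · rw [Polynomial.eval₂_sub, Polynomial.eval₂_X_pow, Polynomial.eval₂_X, sq, h1.eq, sub_self]
    obtain ⟨w, hw⟩ := (hB (E ⊗[A] K)).2 ⟨e₁, he₁⟩
    have hw' : Algebra.TensorProduct.map (AlgHom.id B B) (integralClosure E (E ⊗[A] K)).val w = e₁ :=
      congrArg Subtype.val hw
    have h2 : ∀ w : B ⊗[E] integralClosure E (E ⊗[A] K), ∃ e' : A' ⊗[A] B,
        ι e' = cK (Θ (Algebra.TensorProduct.map (AlgHom.id B B) (integralClosure E (E ⊗[A] K)).val w)) := by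
      intro w
      induction w using TensorProduct.induction_on with
      | zero => exact ⟨0, by simp⟩
      | add x y hx hy =>
        obtain ⟨x', hx'⟩ := hx
        obtain ⟨y', hy'⟩ := hy
        exact ⟨x' + y', by rw [map_add, map_add, map_add, map_add, hx', hy']⟩
      | tmul b t =>
        obtain ⟨t', ht'⟩ := exists_of_isIntegral (A' := A') hC (t : E ⊗[A] K) t.2
        have h3 : ∀ t' : E ⊗[A] A', ∃ e' : A' ⊗[A] B, ι e' = cK (Θ (b ⊗ₜ ext R C A A' K t')) := by
          intro t'
          induction t' using TensorProduct.induction_on with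
          | zero => exact ⟨0, by simp⟩
          | add x y hx hy =>
            obtain ⟨x', hx'⟩ := hx
            obtain ⟨y', hy'⟩ := hy
            exact ⟨x' + y', by rw [map_add, map_add, TensorProduct.tmul_add, map_add, map_add, hx', hy']⟩
          | tmul x k =>
            refine ⟨k ⊗ₜ (x • b), ?_⟩
            have h4 : ext R C A A' K (x ⊗ₜ k) = x ⊗ₜ algebraMap A' K k := rfl
            rw [h4]
            have h5 : Θ (b ⊗ₜ (x ⊗ₜ algebraMap A' K k)) = (x • b) ⊗ₜ algebraMap A' K k :=
              Algebra.TensorProduct.cancelBaseChange_tmul A E B B K b x _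
            rw [h5]
            rfl
        obtain ⟨e', he'⟩ := h3 t'
        refine ⟨e', he'.trans ?_⟩
        rw [ht']
        rfl
    obtain ⟨e', he'⟩ := h2 w
    refine ⟨e', he'.trans ?_⟩
    rw [hw']
    simp only [e₁]
    rw [AlgEquiv.apply_symm_apply, AlgEquiv.apply_symm_apply]
  obtain ⟨e', rfl⟩ := key
  have he' : IsIdempotentElem e' := by
    apply hι
    rw [map_mul]
    exact he
  have : IsLocalHom (algebraMap A A') := Groth.Agent.UnramB.IdemConn.isLocalHom_of_isIntegral _ _
  have := Groth.Agent.UnramB.IdemConn.isAlgebraic_residueField (A := A) (A' := A')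
  have : IsPurelyInseparable (ResidueField A) (ResidueField A') := inferInstance
  rcases Groth.Agent.UnramB.IdemConn.eq_zero_or_one
    Groth.Agent.UnramB.IdemConn.subsingleton_of_isPurelyInseparable e' he' with h | h
  · left; rw [h, map_zero]
  · right; rw [h, map_one]

end

end Groth.Agent.Etbc.H192.ConnAlg
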