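import Groth.Agent.Etbc.H192.ConnAlg
import Groth.Agent.Flat2D.SepClosedGeom
import Groth.Agent.Sga67.DVRConn
import Mathlib.AlgebraicGeometry.Geometrically.Connected

/-!
# Connectedness of `Spec (Ω ⊗[A] B)`, `B` ind-étale over `A ⊗[R] C`
-/

set_option autoImplicit false

universe u

open TensorProduct IsLocalRing CategoryTheory CategoryTheory.Limits AlgebraicGeometry

namespace Groth.Agent.Etbc.H192.ConnAlg2

open NormalIdem ConnAlg

/-- Over a separably closed field, connected affine schemes are geometrically connected. -/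
theorem connectedSpace_tensor_of_isSepClosed (k Ω D : Type u) [Field k] [IsSepClosed k] [Field Ω] [Algebra k Ω]
    [CommRing D] [Algebra k D] [ConnectedSpace (PrimeSpectrum D)] :
    ConnectedSpace (PrimeSpectrum (Ω ⊗[k] D)) := by
  let η := Spec.map (CommRingCat.ofHom (algebraMap k Ω))
  let f := Spec.map (CommRingCat.ofHom (algebraMap k D))
  have h1 : GeometricallyIrreducible η :=
    Flat2D.SepClosedGeom.geometricallyIrreducible_specMap_of_isSepClosed k Ω
  have h2 : GeometricallyConnected η := Sga67.DVRConn.geometricallyConnected _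
  have h3 : UniversallyOpen η := inferInstance
  have h4 : ConnectedSpace (Spec (CommRingCat.of D)) := ‹ConnectedSpace (PrimeSpectrum D)›
  have h5 : ConnectedSpace ↥(pullback η f) := inferInstance
  let e := pullbackSpecIso k Ω D
  exact (Scheme.homeoOfIso e).surjective.connectedSpace (Scheme.homeoOfIso e).continuous

/-- The fraction field of the integral closure in an algebraic extension. -/
theorem isFractionRing_integralClosure (A L : Type u) [CommRing A] [Field L] [Algebra A L]
    (h : ∀ z : L, ∃ a : A, algebraMap A L a ≠ 0 ∧ IsIntegral A (a • z)) :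
    IsFractionRing (integralClosure A L) L where
  map_units := fun y => IsUnit.mk0 _ fun h => nonZeroDivisors.ne_zero y.2 (Subtype.ext h)
  surj := fun z => by
    obtain ⟨a, ha, hz⟩ := h z
    refine ⟨⟨⟨a • z, hz⟩, ⟨algebraMap A _ a, mem_nonZeroDivisors_of_ne_zero fun h => ha ?_⟩⟩, ?_⟩
    · exact congrArg Subtype.val h
    · change z * algebraMap A L a = a • z
      rw [Algebra.smul_def, mul_comm]
  exists_of_eq := fun {x y} h => ⟨1, by rw [Subtype.ext h]⟩

theorem isIntegrallyClosed_integralClosure (A L : Type u) [CommRing A] [Field L] [Algebra A L]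
    [IsFractionRing (integralClosure A L) L] : IsIntegrallyClosed (integralClosure A L) := by
  rw [isIntegrallyClosed_iff L]
  intro x hx
  have h1 : IsIntegral A x := isIntegral_trans x hx
  exact ⟨⟨x, h1⟩, rfl⟩

/-- Connectedness of the geometric fibres, in algebraic form. -/
theorem connectedSpace {R C A B : Type u} [CommRing R] [IsNoetherianRing R] [CommRing C] [Algebra R C]
    [Module.Flat R C] (hC : RedFib R C) [CommRing A] [HenselianLocalRing A] [IsSepClosed (ResidueField A)]
    [Algebra R A] [CommRing B] [IsLocalRing B] [Algebra A B] [IsLocalHom (algebraMap A B)]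
    [Algebra (A ⊗[R] C) B] [IsScalarTower A (A ⊗[R] C) B] [Module.Flat A B] (hB : ICBC (A ⊗[R] C) B)
    (Ω : Type u) [Field Ω] [IsAlgClosed Ω] [Algebra A Ω] : ConnectedSpace (PrimeSpectrum (Ω ⊗[A] B)) := by
  let P : Ideal A := RingHom.ker (algebraMap A Ω)
  have hP : P.IsPrime := RingHom.ker_isPrime _
  let F := P.ResidueField
  let L := AlgebraicClosure F
  have hff : Module.FaithfullyFlat A B := Module.FaithfullyFlat.of_flat_of_isLocalHom
  -- `A' = ` the integral closure of `A` in `L`
  have hal : ∀ z : L, ∃ a : A, algebraMap A L a ≠ 0 ∧ IsIntegral A (a • z) := by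
    intro z
    have h1 : Algebra.IsAlgebraic (A ⧸ P) L :=
      (IsFractionRing.comap_isAlgebraic_iff (A := A ⧸ P) (K := F) (C := L)).2 inferInstance
    obtain ⟨x, hx, hint⟩ := (h1.isAlgebraic z).exists_integral_multiple
    obtain ⟨a, rfl⟩ := Ideal.Quotient.mk_surjective x
    have h2 : (Ideal.Quotient.mk P a) • z = a • z := by
      rw [Algebra.smul_def, Algebra.smul_def]
      congr 1
    refine ⟨a, ?_, ?_⟩
    · intro h
      apply hx
      rw [Ideal.Quotient.eq_zero_iff_mem]
      have h3 : algebraMap A F a = 0 := (algebraMap F L).injective (by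
        rw [map_zero, ← IsScalarTower.algebraMap_apply]; exact h)
      exact Ideal.algebraMap_residueField_eq_zero.1 h3
    · rw [← h2]
      have h4 : (Ideal.Quotient.mk P).IsIntegral :=
        RingHom.isIntegral_of_surjective _ Ideal.Quotient.mk_surjective
      have h5 : Algebra.IsIntegral A (A ⧸ P) := ⟨h4⟩
      exact isIntegral_trans _ hint
  let A' := integralClosure A L
  have hfr : IsFractionRing A' L := isFractionRing_integralClosure A L hal
  have hic : IsIntegrallyClosed A' := isIntegrallyClosed_integralClosure A L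
  have hloc : IsLocalRing A' := Groth.Agent.UnramB.IdemConn.isLocalRing_of_isIntegral A A'
  have ht1 : IsScalarTower R A L := inferInstance
  have ht2 : IsScalarTower R A A' := inferInstance
  have ht3 : IsScalarTower R A' L := inferInstance
  have hconn : ConnectedSpace (PrimeSpectrum (L ⊗[A] B)) :=
    Groth.Agent.UnramB.IdemConn.connectedSpace_of_idempotents _
      (fun e he => ConnAlg.eq_zero_or_one (A' := A') hC hB e he)
  -- from `L` to `Ω`
  let φ : F →+* Ω := Ideal.ResidueField.lift P (algebraMap A Ω) le_rfl (by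
    intro x hx
    simp only [Submonoid.mem_comap, IsUnit.mem_submonoid_iff]
    exact (isUnit_iff_ne_zero).mpr (fun h => hx h))
  let _ : Algebra F Ω := φ.toAlgebra
  let ψ : L →ₐ[F] Ω := IsAlgClosed.lift
  let _ : Algebra L Ω := ψ.toRingHom.toAlgebra
  have ht4 : IsScalarTower A L Ω := IsScalarTower.of_algebraMap_eq fun a => by
    have h1 : algebraMap A Ω a = φ (algebraMap A F a) :=
      (Ideal.ResidueField.lift_algebraMap _ _ _ _ _).symm
    rw [h1]
    change _ = ψ (algebraMap A L a)
    rw [IsScalarTower.algebraMap_apply A F L, ψ.commutes]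
    rfl
  have h6 : ConnectedSpace (PrimeSpectrum (Ω ⊗[L] (L ⊗[A] B))) :=
    connectedSpace_tensor_of_isSepClosed L Ω (L ⊗[A] B)
  let e : Ω ⊗[L] (L ⊗[A] B) ≃+* Ω ⊗[A] B := (Algebra.TensorProduct.cancelBaseChange A L Ω Ω B).toRingEquiv
  let e' := PrimeSpectrum.homeomorphOfRingEquiv e
  exact e'.surjective.connectedSpace e'.continuous

end Groth.Agent.Etbc.H192.ConnAlg2
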