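import Mathlib.RingTheory.Polynomial.ScaleRoots
import Mathlib.RingTheory.IntegralClosure.IsIntegral.Basic
import Mathlib.RingTheory.Flat.FaithfullyFlat.Algebra
import Mathlib.Algebra.Polynomial.Lifts
import Mathlib.RingTheory.Ideal.MinimalPrime.Noetherian
import Mathlib.RingTheory.Localization.FractionRing
import Mathlib.LinearAlgebra.TensorProduct.Quotient
import Mathlib.LinearAlgebra.TensorProduct.Pi
import Mathlib.RingTheory.Ideal.Quotient.Operations

/-!
# Integrality over a Noetherian domain can be tested on the quotients of a faithfully flat algebra by its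
minimal primes

* `isIntegral_of_scaleRoots` : faithfully flat descent of an integral dependence relation;
* `exists_scaleRoots_of_minimalPrimes` : an integral dependence relation over `S` from relations over all `S / P`,
  `P` minimal;
* `mem_smul_top_of_tmul` : divisibility after tensoring with a flat module.
-/

set_option autoImplicit false

universe u v

open Polynomial TensorProduct Pointwise

namespace Groth.Agent.Etbc.H192.CplInt

/-- A homogenized monic relation over a faithfully flat algebra gives integrality of the quotient. -/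
theorem isIntegral_of_scaleRoots {A S : Type u} [CommRing A] [CommRing S] [Algebra A S]
    [Module.FaithfullyFlat A S] (a x : A) (G : S[X]) (hG : G.Monic)
    (h : (G.scaleRoots (algebraMap A S a)).eval (algebraMap A S x) = 0) {K : Type v} [CommRing K]
    [IsDomain K] [Algebra A K] (y : K) (hy : algebraMap A K a * y = algebraMap A K x)
    (ha : algebraMap A K a ≠ 0) : IsIntegral A y := by
  set n := G.natDegree with hn
  let g : Fin n → A := fun i => a ^ (n - i) * x ^ (i : ℕ)
  let I : Ideal A := Ideal.span (Set.range g)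
  have h1 : x ^ n ∈ I := by
    rw [← Ideal.comap_map_eq_self_of_faithfullyFlat (B := S) I, Ideal.mem_comap]
    rw [eval_eq_sum_range, natDegree_scaleRoots, ← hn, Finset.sum_range_succ, coeff_scaleRoots] at h
    rw [← hn, tsub_self, pow_zero, mul_one, show G.coeff n = 1 from hG.coeff_natDegree, one_mul,
      add_comm] at h
    rw [map_pow, eq_neg_of_add_eq_zero_left h]
    refine neg_mem (sum_mem fun i hi => ?_)
    rw [coeff_scaleRoots, ← hn, mul_assoc]
    apply Ideal.mul_mem_left
    have h2 : algebraMap A S (g ⟨i, Finset.mem_range.1 hi⟩) ∈ I.map (algebraMap A S) :=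
      Ideal.mem_map_of_mem _ (Ideal.subset_span ⟨_, rfl⟩)
    simpa only [g, map_mul, map_pow] using h2
  obtain ⟨c, hc⟩ := (Ideal.mem_span_range_iff_exists_fun).1 h1
  have h2 : y ^ n = ∑ i : Fin n, algebraMap A K (c i) * y ^ (i : ℕ) := by
    apply mul_left_cancel₀ (pow_ne_zero n ha)
    rw [← mul_pow, hy, ← map_pow, ← hc, map_sum, Finset.mul_sum]
    refine Finset.sum_congr rfl fun i _ => ?_
    simp only [g, map_mul, map_pow]
    rw [← hy, mul_pow]
    have : algebraMap A K a ^ n = algebraMap A K a ^ (n - (i : ℕ)) * algebraMap A K a ^ (i : ℕ) := by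
      rw [← pow_add, Nat.sub_add_cancel i.2.le]
    rw [this]
    ring
  refine ⟨X ^ n - ∑ i : Fin n, C (c i) * X ^ (i : ℕ), monic_X_pow_sub (degree_sum_fin_lt c), ?_⟩
  rw [eval₂_sub, eval₂_X_pow, h2, eval₂_finsetSum]
  simp

/-- Homogenized relations: from each `S / P` to finite intersections. -/
theorem exists_scaleRoots_of_finset {S : Type u} [CommRing S] [Nontrivial S] (a x : S) (T : Finset (Ideal S))
    (h : ∀ P ∈ T, ∃ F : S[X], F.Monic ∧ (F.scaleRoots a).eval x ∈ P) :
    ∃ F : S[X], F.Monic ∧ ∀ P ∈ T, (F.scaleRoots a).eval x ∈ P := by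
  classical
  induction T using Finset.induction_on with
  | empty => exact ⟨1, monic_one, by simp⟩
  | insert P T hP ih =>
    obtain ⟨F, hF, hFT⟩ := ih (fun Q hQ => h Q (Finset.mem_insert_of_mem hQ))
    obtain ⟨G, hG, hGP⟩ := h P (Finset.mem_insert_self P T)
    have hmul : ((F * G).scaleRoots a).eval x = (F.scaleRoots a).eval x * (G.scaleRoots a).eval x := by
      rw [mul_scaleRoots' F G a (by rw [hF.leadingCoeff, hG.leadingCoeff, one_mul]; exact one_ne_zero),
        eval_mul]
    refine ⟨F * G, hF.mul hG, fun Q hQ => ?_⟩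
    rw [hmul]
    rcases Finset.mem_insert.1 hQ with rfl | hQ
    · exact Ideal.mul_mem_left _ _ hGP
    · exact Ideal.mul_mem_right _ _ (hFT Q hQ)

/-- Homogenized relations modulo all minimal primes give one over a Noetherian ring. -/
theorem exists_scaleRoots_of_minimalPrimes {S : Type u} [CommRing S] [IsNoetherianRing S] [Nontrivial S]
    (a x : S) (h : ∀ P ∈ minimalPrimes S, ∃ F : S[X], F.Monic ∧ (F.scaleRoots a).eval x ∈ P) :
    ∃ F : S[X], F.Monic ∧ (F.scaleRoots a).eval x = 0 := by
  have hfin : (minimalPrimes S).Finite := minimalPrimes.finite_of_isNoetherianRing S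
  obtain ⟨F, hF, hFP⟩ := exists_scaleRoots_of_finset a x hfin.toFinset
    (fun P hP => h P (hfin.mem_toFinset.1 hP))
  have hnil : (F.scaleRoots a).eval x ∈ nilradical S := by
    rw [nilradical, ← Ideal.sInf_minimalPrimes, Submodule.mem_sInf]
    intro P hP
    exact hFP P (hfin.mem_toFinset.2 hP)
  obtain ⟨k, hk⟩ := hnil
  refine ⟨F ^ k, hF.pow k, ?_⟩
  rw [pow_scaleRoots' F a k (by rw [hF.leadingCoeff, one_pow]; exact one_ne_zero), eval_pow, hk]

/-- The relation modulo a prime `P` from integrality over `S / P`. -/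
theorem exists_scaleRoots_mod {S : Type u} [CommRing S] (P : Ideal S) {L : Type v} [CommRing L]
    [Algebra (S ⧸ P) L] (hinj : Function.Injective (algebraMap (S ⧸ P) L)) (a x : S) (y : L)
    (hy : algebraMap (S ⧸ P) L (Ideal.Quotient.mk P a) * y = algebraMap (S ⧸ P) L (Ideal.Quotient.mk P x))
    (hint : IsIntegral (S ⧸ P) y) : ∃ F : S[X], F.Monic ∧ (F.scaleRoots a).eval x ∈ P := by
  obtain ⟨f, hf, hfy⟩ := hint
  obtain ⟨F, hFf, -, hF⟩ := lifts_and_natDegree_eq_and_monic
    ((mem_lifts f).2 (map_surjective _ Ideal.Quotient.mk_surjective f)) hf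
  refine ⟨F, hF, ?_⟩
  rw [← Ideal.Quotient.eq_zero_iff_mem]
  apply hinj
  let φ : S →+* L := (algebraMap (S ⧸ P) L).comp (Ideal.Quotient.mk P)
  have h1 : eval₂ φ (φ a * y) (F.scaleRoots a) = φ a ^ F.natDegree * eval₂ φ y F :=
    scaleRoots_eval₂_mul φ y a
  have h2 : eval₂ φ y F = 0 := by
    rw [← hfy, ← hFf, eval₂_map]
  have h3 : φ a * y = φ x := hy
  rw [h2, mul_zero, h3, eval₂_at_apply] at h1
  rw [map_zero]
  exact h1

section Flat

variable {A : Type u} [CommRing A] {M : Type u} [AddCommGroup M] [Module A M]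

/-- The ideal of `x` with `x u ∈ a M`. -/
def divIdeal (a : A) (u : M) : Ideal A where
  carrier := {x | ∃ m : M, x • u = a • m}
  add_mem' := by
    rintro x y ⟨c, hc⟩ ⟨d, hd⟩
    exact ⟨c + d, by rw [add_smul, hc, hd, smul_add]⟩
  zero_mem' := ⟨0, by rw [zero_smul, smul_zero]⟩
  smul_mem' := by
    rintro r x ⟨c, hc⟩
    exact ⟨r • c, by rw [smul_eq_mul, mul_smul, hc, smul_comm]⟩

theorem mem_divIdeal {a : A} {u : M} {x : A} : x ∈ divIdeal a u ↔ ∃ m : M, x • u = a • m := Iff.rfl

/-- If `d ⊗ u` is divisible by `a` in `D ⊗ M`, `D` flat, then `d ∈ J D` with `J = {x | x u ∈ a M}`. -/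
theorem mem_smul_top_of_tmul {D : Type u} [AddCommGroup D] [Module A D] [Module.Flat A D] (a : A) (u : M)
    (d : D) (z : D ⊗[A] M) (h : d ⊗ₜ[A] u = a • z) :
    d ∈ (divIdeal a u • ⊤ : Submodule A D) := by
  let q : M →ₗ[A] M ⧸ (a • ⊤ : Submodule A M) := Submodule.mkQ _
  let φ : A →ₗ[A] M ⧸ (a • ⊤ : Submodule A M) := q.comp (LinearMap.toSpanSingleton A M u)
  have hker : divIdeal a u = LinearMap.ker φ := by
    ext x
    rw [mem_divIdeal, LinearMap.mem_ker]
    change _ ↔ q (x • u) = 0
    rw [Submodule.mkQ_apply, Submodule.Quotient.mk_eq_zero, Submodule.mem_smul_pointwise_iff_exists]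
    constructor
    · rintro ⟨m, hm⟩
      exact ⟨m, trivial, hm.symm⟩
    · rintro ⟨m, -, hm⟩
      exact ⟨m, hm.symm⟩
  let ψ : (A ⧸ divIdeal a u) →ₗ[A] M ⧸ (a • ⊤ : Submodule A M) :=
    (divIdeal a u).liftQ φ hker.le
  have hψ : Function.Injective ψ := by
    rw [← LinearMap.ker_eq_bot]
    exact Submodule.ker_liftQ_eq_bot _ _ _ hker.ge
  have hψD : Function.Injective (ψ.lTensor D) := Module.Flat.lTensor_preserves_injective_linearMap _ hψ
  have h1 : d ⊗ₜ[A] (1 : A ⧸ divIdeal a u) = 0 := by
    apply hψD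
    rw [map_zero, LinearMap.lTensor_tmul]
    have h2 : ψ 1 = q u := by
      change ψ (Submodule.Quotient.mk 1) = _
      rw [Submodule.liftQ_apply]
      change q ((1 : A) • u) = q u
      rw [one_smul]
    have h3 : (q.lTensor D) (d ⊗ₜ[A] u) = 0 := by
      rw [h, map_smul]
      have hz : ∀ w : D ⊗[A] (M ⧸ (a • ⊤ : Submodule A M)), a • w = 0 := by
        intro w
        induction w with
        | zero => rw [smul_zero]
        | add x y hx hy => rw [smul_add, hx, hy, add_zero]
        | tmul x y =>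
          obtain ⟨y, rfl⟩ := Submodule.mkQ_surjective _ y
          rw [← TensorProduct.tmul_smul, ← map_smul, Submodule.mkQ_apply,
            (Submodule.Quotient.mk_eq_zero _).2 (Submodule.smul_mem_pointwise_smul _ _ _ Submodule.mem_top),
            TensorProduct.tmul_zero]
      exact hz _
    rw [LinearMap.lTensor_tmul] at h3
    rw [h2]
    exact h3
  have h2 := congrArg (TensorProduct.tensorQuotEquivQuotSMul D (divIdeal a u)) h1
  rw [map_zero] at h2
  have h3 : TensorProduct.tensorQuotEquivQuotSMul D (divIdeal a u) (d ⊗ₜ[A] (1 : A ⧸ divIdeal a u)) =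
      Submodule.Quotient.mk ((1 : A) • d) := TensorProduct.tensorQuotEquivQuotSMul_tmul_mk _ _ _
  rw [h3, one_smul, Submodule.Quotient.mk_eq_zero] at h2
  exact h2

/-- Divisibility in `D ⊗ ∏ M i` from divisibility in each `D ⊗ M i`. -/
theorem exists_tmul_pi {ι : Type u} [Finite ι] (M : ι → Type u) [∀ i, AddCommGroup (M i)]
    [∀ i, Module A (M i)] {D : Type u} [AddCommGroup D] [Module A D] (a : A) (u : ∀ i, M i) (d : D)
    (h : ∀ i, ∃ z : D ⊗[A] M i, d ⊗ₜ[A] u i = a • z) :
    ∃ z : D ⊗[A] (∀ i, M i), d ⊗ₜ[A] u = a • z := by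
  classical
  have := Fintype.ofFinite ι
  choose z hz using h
  let e := TensorProduct.piRight A A D M
  refine ⟨e.symm z, ?_⟩
  apply e.injective
  rw [map_smul, LinearEquiv.apply_symm_apply]
  funext i
  rw [Pi.smul_apply, ← hz]
  exact congrFun (TensorProduct.piRightHom_tmul A A D M d u) i

end Flat

end Groth.Agent.Etbc.H192.CplInt
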