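import Groth.Agent.Etbc.H192.NormalIdem

/-!
# Flat algebras with reduced fibres over normal Noetherian domains are integrally closed in their generic fibre

* `IntDiv a b` : `b / a` satisfies (formally) an integral equation.
* `dvd_of_intDiv` : `D` a flat algebra over the normal Noetherian domain `N` whose fibres `D ⊗ κ` are reduced,
  `a ≠ 0` in `N` and `IntDiv a b`; then `b ∈ a D`.
-/

set_option autoImplicit false

universe u

open TensorProduct IsLocalRing

namespace Groth.Agent.Etbc.H192.NormalInt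

open NormalIdem

/-- `b / a` is formally integral: `b ^ n = ∑_{i < n} a ^ (n - i) c_i b ^ i`. -/
def IntDiv {N D : Type u} [CommRing N] [CommRing D] [Algebra N D] (a : N) (b : D) : Prop :=
  ∃ (n : ℕ) (c : ℕ → D), b ^ n = ∑ i ∈ Finset.range n, a ^ (n - i) • (c i * b ^ i)

theorem IntDiv.map {N D D' : Type u} [CommRing N] [CommRing D] [Algebra N D] [CommRing D'] [Algebra N D']
    {a : N} {b : D} (h : IntDiv a b) (φ : D →ₐ[N] D') : IntDiv a (φ b) := by
  obtain ⟨n, c, hc⟩ := h
  refine ⟨n, fun i => φ (c i), ?_⟩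
  rw [← map_pow, hc, map_sum]
  refine Finset.sum_congr rfl fun i _ => ?_
  rw [map_smul, map_mul, map_pow]

theorem IntDiv.tower {N N' D : Type u} [CommRing N] [CommRing N'] [CommRing D] [Algebra N D] [Algebra N N']
    [Algebra N' D] [IsScalarTower N N' D] {a : N} {b : D} (h : IntDiv a b) :
    IntDiv (algebraMap N N' a) b := by
  obtain ⟨n, c, hc⟩ := h
  refine ⟨n, c, ?_⟩
  rw [hc]
  refine Finset.sum_congr rfl fun i _ => ?_
  rw [← map_pow, algebraMap_smul]

theorem IntDiv.of_sq_eq {N D : Type u} [CommRing N] [CommRing D] [Algebra N D] {a : N} {b : D}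
    (h : b ^ 2 = a • b) : IntDiv a b := by
  refine ⟨2, fun i => if i = 1 then 1 else 0, ?_⟩
  rw [Finset.sum_range_succ, Finset.sum_range_one]
  simp [h]

/-- If `a x = b` and `x` satisfies a monic equation, then `IntDiv a b` (in a ring where this makes sense). -/
theorem intDiv_of_aeval {N D : Type u} [CommRing N] [CommRing D] [Algebra N D] (a : N) (b x : D)
    (hx : a • x = b) (F : Polynomial D) (hF : F.Monic) (h : F.eval x = 0) :
    b ^ F.natDegree = ∑ i ∈ Finset.range F.natDegree, a ^ (F.natDegree - i) • ((- F.coeff i) * b ^ i) := by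
  have h1 : x ^ F.natDegree = - ∑ i ∈ Finset.range F.natDegree, F.coeff i * x ^ i := by
    rw [Polynomial.eval_eq_sum_range, Finset.sum_range_succ, hF.coeff_natDegree, one_mul] at h
    exact eq_neg_of_add_eq_zero_right h
  rw [← hx, smul_pow, h1, smul_neg, Finset.smul_sum, ← Finset.sum_neg_distrib]
  refine Finset.sum_congr rfl fun i hi => ?_
  have hi' : i < F.natDegree := Finset.mem_range.1 hi
  rw [smul_pow, mul_smul_comm, smul_smul, ← pow_add, Nat.sub_add_cancel hi'.le, neg_mul, smul_neg]

/-- The step over a principal maximal ideal. -/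
theorem dvd_of_intDiv_local {V D : Type u} [CommRing V] [CommRing D] [Algebra V D] (π : V)
    (hπ : IsSMulRegular D π) (hred : ∀ (c : D) (m : ℕ), (∃ e, c ^ m = π • e) → ∃ e, c = π • e)
    (u : V) (hu : IsUnit u) (n : ℕ) (b : D) (hb : IntDiv (u * π ^ n) b) :
    ∃ c, b = (u * π ^ n) • c := by
  obtain ⟨m, r, hr⟩ := hb
  have key : ∀ k ≤ n, ∃ c, b = π ^ k • c := by
    intro k
    induction k with
    | zero => intro _; exact ⟨b, by simp⟩
    | succ k ih =>
      intro hk
      obtain ⟨c, hc⟩ := ih (by omega)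
      have hnk : n = k + (n - k) := by omega
      have h3 : c ^ m = ∑ i ∈ Finset.range m, (u * π ^ (n - k)) ^ (m - i) • (r i * c ^ i) := by
        apply (hπ.pow (k * m))
        change π ^ (k * m) • c ^ m = π ^ (k * m) • _
        have h4 : b ^ m = π ^ (k * m) • c ^ m := by rw [hc, smul_pow, ← pow_mul]
        rw [← h4, hr, Finset.smul_sum]
        refine Finset.sum_congr rfl fun i hi => ?_
        have hi' : i < m := Finset.mem_range.1 hi
        rw [hc, smul_pow, mul_smul_comm, smul_smul, smul_smul]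
        congr 1
        have e1 : k * m = k * (m - i) + k * i := by
          rw [← mul_add, Nat.sub_add_cancel hi'.le]
        have e2 : π ^ n = π ^ k * π ^ (n - k) := by rw [← pow_add, ← hnk]
        rw [e1, e2, pow_add, pow_mul, pow_mul]
        ring
      have hk1 : n - k = (n - k - 1) + 1 := by omega
      obtain ⟨e, he⟩ := hred c m ⟨∑ i ∈ Finset.range m,
          ((u * π ^ (n - k - 1)) * (u * π ^ (n - k)) ^ (m - i - 1)) • (r i * c ^ i), by
        rw [h3, Finset.smul_sum]
        refine Finset.sum_congr rfl fun i hi => ?_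
        have hi' : i < m := Finset.mem_range.1 hi
        have hmi : m - i = (m - i - 1) + 1 := by omega
        rw [smul_smul]
        congr 1
        conv_lhs => rw [hmi, pow_succ]
        have e2 : π ^ (n - k) = π ^ (n - k - 1) * π := by rw [← pow_succ, ← hk1]
        have e3 : u * π ^ (n - k) = π * (u * π ^ (n - k - 1)) := by rw [e2]; ring
        conv_lhs =>
          rhs
          rw [e3]
        ring⟩
      exact ⟨e, by rw [hc, he, smul_smul, ← pow_succ]⟩
  obtain ⟨c, hc⟩ := key n le_rfl
  obtain ⟨v, rfl⟩ := hu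
  refine ⟨(↑v⁻¹ : V) • c, ?_⟩
  rw [hc, smul_smul]
  congr 1
  rw [mul_comm (v : V), mul_assoc, Units.mul_inv, mul_one]

theorem exists_smul_of_isReduced_pow {V D : Type u} [CommRing V] [IsLocalRing V] [CommRing D] [Algebra V D]
    (π : V) (hπ : maximalIdeal V = Ideal.span {π}) (hred : IsReduced (D ⊗[V] ResidueField V))
    (c : D) (m : ℕ) (hc : ∃ e, c ^ m = π • e) : ∃ e, c = π • e := by
  let e : (D ⧸ (maximalIdeal V).map (algebraMap V D)) ≃ₐ[D] D ⊗[V] (V ⧸ maximalIdeal V) :=
    Algebra.TensorProduct.quotIdealMapEquivTensorQuot D (maximalIdeal V)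
  have hred' : IsReduced (D ⊗[V] (V ⧸ maximalIdeal V)) := hred
  have hred2 : IsReduced (D ⧸ (maximalIdeal V).map (algebraMap V D)) :=
    isReduced_of_injective e.toRingEquiv.toRingHom e.injective
  have hmem : ∀ x : D, x ∈ (maximalIdeal V).map (algebraMap V D) ↔ ∃ e, x = π • e := by
    intro x
    rw [hπ, Ideal.map_span, Set.image_singleton, Ideal.mem_span_singleton']
    constructor
    · rintro ⟨y, hy⟩
      exact ⟨y, by rw [← hy, Algebra.smul_def, mul_comm]⟩
    · rintro ⟨y, hy⟩
      exact ⟨y, by rw [hy, Algebra.smul_def, mul_comm]⟩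
  rw [← hmem] at hc ⊢
  rw [← Ideal.Quotient.eq_zero_iff_mem] at hc ⊢
  rw [map_pow] at hc
  have hn : IsNilpotent (Ideal.Quotient.mk (Ideal.map (algebraMap V D) (maximalIdeal V)) c) := ⟨m, hc⟩
  exact hn.eq_zero

/-- Local form: over a Noetherian local domain with principal maximal ideal. -/
theorem dvd_of_intDiv_of_principal {V D : Type u} [CommRing V] [IsDomain V] [IsLocalRing V]
    [IsNoetherianRing V] [CommRing D] [Algebra V D] [Module.Flat V D] (hred : RedFib V D) {π : V}
    (hπ0 : π ≠ 0) (hπ : maximalIdeal V = Ideal.span {π}) (a : V) (ha : a ≠ 0) (b : D)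
    (hb : IntDiv a b) : ∃ c, b = a • c := by
  obtain ⟨u, n, hu, rfl⟩ := exists_eq_unit_mul_pow hπ ha
  have hreg : IsSMulRegular D π := isSMulRegular_of_flat π (fun x y h => mul_left_cancel₀ hπ0 h)
  exact dvd_of_intDiv_local π hreg (exists_smul_of_isReduced_pow π hπ (hred (ResidueField V))) u hu n b hb

/-- `D` flat over a normal Noetherian domain with reduced fibres, `b / a` formally integral with `a ≠ 0` in the
base; then `b` is divisible by `a`. -/
theorem dvd_of_intDiv {N D : Type u} [CommRing N] [IsDomain N] [IsNoetherianRing N] [IsIntegrallyClosed N]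
    [CommRing D] [Algebra N D] [Module.Flat N D] (hred : RedFib N D) (a : N) (ha : a ≠ 0) (b : D)
    (hb : IntDiv a b) : ∃ c, b = a • c := by
  -- the ideal of `x` with `x b ∈ a D`
  let 𝔠 : Ideal N := 
    { carrier := {x | ∃ c : D, x • b = a • c}
      add_mem' := by
        rintro x y ⟨c, hc⟩ ⟨d, hd⟩
        exact ⟨c + d, by rw [add_smul, hc, hd, smul_add]⟩
      zero_mem' := ⟨0, by rw [zero_smul, smul_zero]⟩
      smul_mem' := by
        rintro r x ⟨c, hc⟩
        exact ⟨r • c, by rw [smul_eq_mul, mul_smul, hc, smul_comm]⟩ }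
  have hfin : (associatedPrimes N (N ⧸ Ideal.span {a})).Finite := associatedPrimes.finite N _
  have hnot : ∀ P ∈ associatedPrimes N (N ⧸ Ideal.span {a}), ¬ 𝔠 ≤ P := by
    intro P hP hle
    have hPp : P.IsPrime := hP.isPrime
    obtain ⟨π, hπ0, hπ⟩ := Groth.Agent.Ega4B.NormalAssoc.exists_generator_of_mem_associatedPrimes ha hP
    let V := Localization.AtPrime P
    have hinj : Function.Injective (algebraMap N V) :=
      IsLocalization.injective _ P.primeCompl_le_nonZeroDivisors
    have hV : IsNoetherianRing V := IsLocalization.isNoetherianRing P.primeCompl _ inferInstance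
    obtain ⟨s, hs, c, hc⟩ := exists_smul_eq_of_atPrime P a b
      (dvd_of_intDiv_of_principal (V := V) (D := V ⊗[N] D) (hred.baseChange V)
        (nonZeroDivisors.ne_zero hπ0) hπ (algebraMap N V a)
        (fun h => ha (hinj (h.trans (map_zero _).symm))) (1 ⊗ₜ b)
        (hb.map (Algebra.TensorProduct.includeRight : D →ₐ[N] V ⊗[N] D)).tower)
    exact hs (hle ⟨c, hc⟩)
  have havoid : ¬ ((𝔠 : Set N) ⊆ ⋃ P ∈ associatedPrimes N (N ⧸ Ideal.span {a}), (P : Set N)) := by
    intro h
    obtain ⟨P, hP, hle⟩ := (Ideal.subset_union_prime_finite hfin ⊤ ⊤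
      (fun P hP _ _ => hP.isPrime)).1 h
    exact hnot P hP hle
  rw [Set.not_subset] at havoid
  obtain ⟨y, ⟨c, hc⟩, hy⟩ := havoid
  rw [biUnion_associatedPrimes_eq_zero_divisors] at hy
  have hreg : IsSMulRegular (N ⧸ Ideal.span {a}) y := by
    rw [isSMulRegular_iff_right_eq_zero_of_smul]
    intro x hx
    by_contra hne
    exact hy ⟨x, hne, hx⟩
  have hreg2 : IsSMulRegular (D ⊗[N] (N ⧸ Ideal.span {a})) y := hreg.lTensor D
  have h1 : b ⊗ₜ[N] (1 : N ⧸ Ideal.span {a}) = 0 := by
    apply hreg2
    change y • (b ⊗ₜ[N] (1 : N ⧸ Ideal.span {a})) = y • 0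
    rw [smul_zero]
    rw [TensorProduct.smul_tmul', hc, TensorProduct.smul_tmul]
    have : a • (1 : N ⧸ Ideal.span {a}) = 0 := by
      rw [Algebra.smul_def, mul_one]
      exact Ideal.Quotient.eq_zero_iff_mem.2 (Ideal.mem_span_singleton_self a)
    rw [this, TensorProduct.tmul_zero]
  have h2 := congrArg (TensorProduct.tensorQuotEquivQuotSMul D (Ideal.span {a})) h1
  rw [map_zero] at h2
  have h3 : TensorProduct.tensorQuotEquivQuotSMul D (Ideal.span {a}) (b ⊗ₜ[N] (1 : N ⧸ Ideal.span {a})) =
      Submodule.Quotient.mk ((1 : N) • b) := TensorProduct.tensorQuotEquivQuotSMul_tmul_mk _ _ _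
  rw [h3, one_smul, Submodule.Quotient.mk_eq_zero, Submodule.ideal_span_singleton_smul,
    Submodule.mem_smul_pointwise_iff_exists] at h2
  obtain ⟨c', -, hc'⟩ := h2
  exact ⟨c', hc'.symm⟩

end Groth.Agent.Etbc.H192.NormalInt
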