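import Groth.Agent.Ega4B.NormalAssoc
import Mathlib.RingTheory.Ideal.AssociatedPrime.Finiteness
import Mathlib.RingTheory.Regular.IsSMulRegular
import Mathlib.LinearAlgebra.TensorProduct.Quotient
import Mathlib.LinearAlgebra.TensorProduct.RightExactness
import Mathlib.RingTheory.Flat.Stability
import Mathlib.RingTheory.Flat.Localization
import Mathlib.RingTheory.Filtration
import Mathlib.RingTheory.LocalRing.ResidueField.Ideal
import Mathlib.RingTheory.TensorProduct.IsBaseChangeHom

/-!
# Idempotents in the generic fibre of flat algebras with reduced fibres over normal Noetherian domains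

* `dvd_of_sq_eq` : `D` a flat algebra over the normal Noetherian domain `N` whose fibres `D ⊗ κ(P)` are reduced,
  `a ≠ 0` in `N` and `b² = a b` in `D`; then `b ∈ a D`.
-/

set_option autoImplicit false

universe u

open TensorProduct IsLocalRing

namespace Groth.Agent.Etbc.H192.NormalIdem

/-- The step over a principal maximal ideal. -/
theorem dvd_of_sq_eq_local {V D : Type u} [CommRing V] [CommRing D] [Algebra V D] (π : V)
    (hπ : IsSMulRegular D π) (hred : ∀ c : D, (∃ e, c ^ 2 = π • e) → ∃ e, c = π • e)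
    (u : V) (hu : IsUnit u) (n : ℕ) (b : D) (hb : b ^ 2 = (u * π ^ n) • b) :
    ∃ c, b = (u * π ^ n) • c := by
  have key : ∀ k ≤ n, ∃ c, b = π ^ k • c := by
    intro k
    induction k with
    | zero => intro _; exact ⟨b, by simp⟩
    | succ k ih =>
      intro hk
      obtain ⟨c, hc⟩ := ih (by omega)
      have h1 : π ^ (2 * k) • c ^ 2 = π ^ (2 * k) • (u * π ^ (n - k)) • c := by
        have h2 : b ^ 2 = π ^ (2 * k) • c ^ 2 := by
          rw [hc, smul_pow, ← pow_mul, mul_comm k 2]
        rw [← h2, hb, hc, smul_smul, smul_smul]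
        congr 1
        have : n = k + (n - k) := by omega
        rw [show π ^ n = π ^ k * π ^ (n - k) by rw [← pow_add, ← this]]
        ring
      have h3 : c ^ 2 = (u * π ^ (n - k)) • c := (hπ.pow _) h1
      obtain ⟨e, he⟩ := hred c ⟨(u * π ^ (n - k - 1)) • c, by
        rw [h3, smul_smul]
        congr 1
        have : n - k = (n - k - 1) + 1 := by omega
        rw [show π ^ (n - k) = π ^ (n - k - 1) * π by rw [← pow_succ, ← this]]
        ring⟩
      exact ⟨e, by rw [hc, he, smul_smul, ← pow_succ]⟩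
  obtain ⟨c, hc⟩ := key n le_rfl
  obtain ⟨v, rfl⟩ := hu
  refine ⟨(↑v⁻¹ : V) • c, ?_⟩
  rw [hc, smul_smul]
  congr 1
  rw [mul_comm (v : V), mul_assoc, Units.mul_inv, mul_one]

/-- In a Noetherian local ring with maximal ideal generated by `π`, nonzero elements are `unit * π ^ n`. -/
theorem exists_eq_unit_mul_pow {V : Type u} [CommRing V] [IsDomain V] [IsLocalRing V] [IsNoetherianRing V]
    {π : V} (hπ : maximalIdeal V = Ideal.span {π}) {a : V} (ha : a ≠ 0) :
    ∃ (u : V) (n : ℕ), IsUnit u ∧ a = u * π ^ n := by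
  by_contra hcon
  push Not at hcon
  have h1 : ∀ n, a ∈ maximalIdeal V ^ n := by
    intro n
    induction n with
    | zero => simp
    | succ n ih =>
      rw [hπ, Ideal.span_singleton_pow, Ideal.mem_span_singleton'] at ih
      obtain ⟨u, hu⟩ := ih
      have h2 : u ∈ maximalIdeal V := fun hu' => hcon u n hu' hu.symm
      rw [← hu, pow_succ']
      exact Ideal.mul_mem_mul h2 (Ideal.pow_mem_pow (by rw [hπ]; exact Ideal.mem_span_singleton_self π) n)
  have h2 : a ∈ (⨅ n : ℕ, maximalIdeal V ^ n) := by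
    rw [Submodule.mem_iInf]
    exact h1
  rw [Ideal.iInf_pow_eq_bot_of_isLocalRing _ (maximalIdeal.isMaximal V).ne_top] at h2
  exact ha h2

/-- reducedness modulo the maximal ideal, in the form used by `dvd_of_sq_eq_local`. -/
theorem exists_smul_of_isReduced {V D : Type u} [CommRing V] [IsLocalRing V] [CommRing D] [Algebra V D]
    (π : V) (hπ : maximalIdeal V = Ideal.span {π}) (hred : IsReduced (D ⊗[V] ResidueField V))
    (c : D) (hc : ∃ e, c ^ 2 = π • e) : ∃ e, c = π • e := by
  let e : (D ⧸ (maximalIdeal V).map (algebraMap V D)) ≃ₐ[D] D ⊗[V] (V ⧸ maximalIdeal V) :=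
    Algebra.TensorProduct.quotIdealMapEquivTensorQuot D (maximalIdeal V)
  have hred' : IsReduced (D ⊗[V] (V ⧸ maximalIdeal V)) := hred
  have hred2 : IsReduced (D ⧸ (maximalIdeal V).map (algebraMap V D)) :=
    isReduced_of_injective e.toRingEquiv.toRingHom e.injective
  have hmem : ∀ x : D, x ∈ (maximalIdeal V).map (algebraMap V D) ↔ ∃ e, x = π • e := by
    intro x
    rw [hπ, Ideal.map_span, Set.image_singleton, Ideal.mem_span_singleton']
    constructor
    · rintro ⟨y, hy⟩
      exact ⟨y, by rw [← hy, Algebra.smul_def, mul_comm]⟩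
    · rintro ⟨y, hy⟩
      exact ⟨y, by rw [hy, Algebra.smul_def, mul_comm]⟩
  rw [← hmem] at hc ⊢
  rw [← Ideal.Quotient.eq_zero_iff_mem] at hc ⊢
  rw [map_pow] at hc
  exact (pow_eq_zero_iff two_ne_zero).1 hc

/-- The reducedness of all fibres. -/
def RedFib (N D : Type u) [CommRing N] [CommRing D] [Algebra N D] : Prop :=
  ∀ (κ : Type u) [Field κ] [Algebra N κ], IsReduced (D ⊗[N] κ)

theorem RedFib.baseChange {N D : Type u} [CommRing N] [CommRing D] [Algebra N D] (h : RedFib N D)
    (N' : Type u) [CommRing N'] [Algebra N N'] : RedFib N' (N' ⊗[N] D) := by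
  intro κ _ _
  let _ : Algebra N κ := ((algebraMap N' κ).comp (algebraMap N N')).toAlgebra
  have : IsScalarTower N N' κ := IsScalarTower.of_algebraMap_eq fun _ => rfl
  have h1 := h κ
  let e1 : κ ⊗[N'] (N' ⊗[N] D) ≃ₐ[N'] κ ⊗[N] D := Algebra.TensorProduct.cancelBaseChange N N' N' κ D
  let e2 : (N' ⊗[N] D) ⊗[N'] κ ≃ₐ[N'] κ ⊗[N'] (N' ⊗[N] D) := Algebra.TensorProduct.comm N' _ _
  let e3 : κ ⊗[N] D ≃ₐ[N] D ⊗[N] κ := Algebra.TensorProduct.comm N _ _
  exact isReduced_of_injective ((e3.toRingEquiv.toRingHom.comp e1.toRingEquiv.toRingHom).comp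
    e2.toRingEquiv.toRingHom) (e3.injective.comp (e1.injective.comp e2.injective))

theorem isSMulRegular_of_flat {V D : Type u} [CommRing V] [AddCommGroup D] [Module V D] [Module.Flat V D]
    (π : V) (h : IsSMulRegular V π) : IsSMulRegular D π := by
  have h1 : IsSMulRegular (D ⊗[V] V) π := h.lTensor D
  exact ((TensorProduct.rid V D).isSMulRegular_congr π).1 h1

/-- Local form: over a Noetherian local domain with principal maximal ideal. -/
theorem dvd_of_sq_eq_of_principal {V D : Type u} [CommRing V] [IsDomain V] [IsLocalRing V]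
    [IsNoetherianRing V] [CommRing D] [Algebra V D] [Module.Flat V D] (hred : RedFib V D) {π : V}
    (hπ0 : π ≠ 0) (hπ : maximalIdeal V = Ideal.span {π}) (a : V) (ha : a ≠ 0) (b : D)
    (hb : b ^ 2 = a • b) : ∃ c, b = a • c := by
  obtain ⟨u, n, hu, rfl⟩ := exists_eq_unit_mul_pow hπ ha
  have hreg : IsSMulRegular D π := isSMulRegular_of_flat π (fun x y h => mul_left_cancel₀ hπ0 h)
  exact dvd_of_sq_eq_local π hreg (exists_smul_of_isReduced π hπ (hred (ResidueField V))) u hu n b hb

/-- Clearing denominators at a prime. -/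
theorem exists_smul_eq_of_atPrime {N D : Type u} [CommRing N] [CommRing D] [Algebra N D] (P : Ideal N)
    [P.IsPrime] (a : N) (b : D)
    (h : ∃ c : Localization.AtPrime P ⊗[N] D,
      (1 : Localization.AtPrime P) ⊗ₜ[N] b = algebraMap N (Localization.AtPrime P) a • c) :
    ∃ s ∉ P, ∃ c : D, s • b = a • c := by
  obtain ⟨c, hc⟩ := h
  let f : D →ₗ[N] Localization.AtPrime P ⊗[N] D := TensorProduct.mk N (Localization.AtPrime P) D 1
  have hf : IsLocalizedModule P.primeCompl f :=
    (isLocalizedModule_iff_isBaseChange P.primeCompl (Localization.AtPrime P) f).2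
      (TensorProduct.isBaseChange N D (Localization.AtPrime P))
  obtain ⟨⟨c₀, s⟩, hcs⟩ := IsLocalizedModule.surj P.primeCompl f c
  have h1 : f ((s : N) • b) = f (a • c₀) := by
    rw [map_smul, map_smul, ← hcs]
    change (s : N) • (1 ⊗ₜ[N] b) = a • (s • c)
    rw [hc, algebraMap_smul, smul_comm]
    rfl
  obtain ⟨t, ht⟩ := (IsLocalizedModule.eq_iff_exists P.primeCompl f).1 h1
  refine ⟨t * s, fun hmem => ?_, t • c₀, ?_⟩
  · exact (P.primeCompl.mul_mem t.2 s.2) hmem
  · rw [mul_smul]
    refine ht.trans ?_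
    rw [smul_comm]

/-- `D` flat over a normal Noetherian domain with reduced fibres, `b ^ 2 = a b` with `a ≠ 0` in the base; then
`b` is divisible by `a`. -/
theorem dvd_of_sq_eq {N D : Type u} [CommRing N] [IsDomain N] [IsNoetherianRing N] [IsIntegrallyClosed N]
    [CommRing D] [Algebra N D] [Module.Flat N D] (hred : RedFib N D) (a : N) (ha : a ≠ 0) (b : D)
    (hb : b ^ 2 = a • b) : ∃ c, b = a • c := by
  -- the ideal of `x` with `x b ∈ a D`
  let 𝔠 : Ideal N := 
    { carrier := {x | ∃ c : D, x • b = a • c}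
      add_mem' := by
        rintro x y ⟨c, hc⟩ ⟨d, hd⟩
        exact ⟨c + d, by rw [add_smul, hc, hd, smul_add]⟩
      zero_mem' := ⟨0, by rw [zero_smul, smul_zero]⟩
      smul_mem' := by
        rintro r x ⟨c, hc⟩
        exact ⟨r • c, by rw [smul_eq_mul, mul_smul, hc, smul_comm]⟩ }
  have hfin : (associatedPrimes N (N ⧸ Ideal.span {a})).Finite := associatedPrimes.finite N _
  have hnot : ∀ P ∈ associatedPrimes N (N ⧸ Ideal.span {a}), ¬ 𝔠 ≤ P := by
    intro P hP hle
    have hPp : P.IsPrime := hP.isPrime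
    obtain ⟨π, hπ0, hπ⟩ := Groth.Agent.Ega4B.NormalAssoc.exists_generator_of_mem_associatedPrimes ha hP
    let V := Localization.AtPrime P
    have hinj : Function.Injective (algebraMap N V) :=
      IsLocalization.injective _ P.primeCompl_le_nonZeroDivisors
    have hV : IsNoetherianRing V := IsLocalization.isNoetherianRing P.primeCompl _ inferInstance
    obtain ⟨s, hs, c, hc⟩ := exists_smul_eq_of_atPrime P a b
      (dvd_of_sq_eq_of_principal (V := V) (D := V ⊗[N] D) (hred.baseChange V)
        (nonZeroDivisors.ne_zero hπ0) hπ (algebraMap N V a)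
        (fun h => ha (hinj (h.trans (map_zero _).symm))) (1 ⊗ₜ b) (by
          rw [Algebra.TensorProduct.tmul_pow, one_pow, hb, TensorProduct.tmul_smul, algebraMap_smul]))
    exact hs (hle ⟨c, hc⟩)
  have havoid : ¬ ((𝔠 : Set N) ⊆ ⋃ P ∈ associatedPrimes N (N ⧸ Ideal.span {a}), (P : Set N)) := by
    intro h
    obtain ⟨P, hP, hle⟩ := (Ideal.subset_union_prime_finite hfin ⊤ ⊤
      (fun P hP _ _ => hP.isPrime)).1 h
    exact hnot P hP hle
  rw [Set.not_subset] at havoid
  obtain ⟨y, ⟨c, hc⟩, hy⟩ := havoid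
  rw [biUnion_associatedPrimes_eq_zero_divisors] at hy
  have hreg : IsSMulRegular (N ⧸ Ideal.span {a}) y := by
    rw [isSMulRegular_iff_right_eq_zero_of_smul]
    intro x hx
    by_contra hne
    exact hy ⟨x, hne, hx⟩
  have hreg2 : IsSMulRegular (D ⊗[N] (N ⧸ Ideal.span {a})) y := hreg.lTensor D
  have h1 : b ⊗ₜ[N] (1 : N ⧸ Ideal.span {a}) = 0 := by
    apply hreg2
    change y • (b ⊗ₜ[N] (1 : N ⧸ Ideal.span {a})) = y • 0
    rw [smul_zero]
    rw [TensorProduct.smul_tmul', hc, TensorProduct.smul_tmul]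
    have : a • (1 : N ⧸ Ideal.span {a}) = 0 := by
      rw [Algebra.smul_def, mul_one]
      exact Ideal.Quotient.eq_zero_iff_mem.2 (Ideal.mem_span_singleton_self a)
    rw [this, TensorProduct.tmul_zero]
  have h2 := congrArg (TensorProduct.tensorQuotEquivQuotSMul D (Ideal.span {a})) h1
  rw [map_zero] at h2
  have h3 : TensorProduct.tensorQuotEquivQuotSMul D (Ideal.span {a}) (b ⊗ₜ[N] (1 : N ⧸ Ideal.span {a})) =
      Submodule.Quotient.mk ((1 : N) • b) := TensorProduct.tensorQuotEquivQuotSMul_tmul_mk _ _ _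
  rw [h3, one_smul, Submodule.Quotient.mk_eq_zero, Submodule.ideal_span_singleton_smul,
    Submodule.mem_smul_pointwise_iff_exists] at h2
  obtain ⟨c', -, hc'⟩ := h2
  exact ⟨c', hc'.symm⟩

end Groth.Agent.Etbc.H192.NormalIdem
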