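import Groth.Agent.S0543
import Groth.Agent.S0568
import Groth.Agent.Etbc.H192.NormalIdem
import Groth.Agent.Etbc.H192.CplInt
import Mathlib.RingTheory.AdicCompletion.LocalRing
import Mathlib.RingTheory.AdicCompletion.AsTensorProduct

/-!
# Idempotents over Noetherian local domains

`A` a Noetherian local domain, `D` a flat `A`-algebra all of whose fibres `D ⊗ κ` (`κ` any field over `A`) are
reduced, `d ∈ D` with `d² = a d`, `a ≠ 0` in `A`.  Then `d ∈ J D` where `x / a` is integral over `A` for all `x ∈ J`.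
In particular `d ⊗ 1 ∈ a (D ⊗_A A')` for every integrally closed domain `A' ⊇ A`.
-/

set_option autoImplicit false

universe u

open TensorProduct IsLocalRing

namespace Groth.Agent.Etbc.H192.CoreNoeth

open NormalIdem CplInt

theorem exists_ideal {A D : Type u} [CommRing A] [IsDomain A] [IsLocalRing A] [IsNoetherianRing A]
    [CommRing D] [Algebra A D] [Module.Flat A D] (hred : RedFib A D) (a : A) (ha : a ≠ 0) (d : D)
    (hd : d ^ 2 = a • d) :
    ∃ J : Ideal A, d ∈ (J • ⊤ : Submodule A D) ∧ ∀ x ∈ J, ∀ (K : Type u) [CommRing K] [IsDomain K]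
      [Algebra A K] (y : K), algebraMap A K a * y = algebraMap A K x → algebraMap A K a ≠ 0 →
        IsIntegral A y := by
  let S := AdicCompletion (maximalIdeal A) A
  have hS : IsNoetherianRing S := S0543.result A (maximalIdeal A)
  have hff : Module.FaithfullyFlat A S := Module.FaithfullyFlat.of_flat_of_isLocalHom
  have hNag : CAlg.IsNagata S := S0568.result _
  have hnt : Nontrivial S := inferInstance
  let ι := {P : Ideal S // P ∈ minimalPrimes S}
  have hfin : Finite ι := minimalPrimes.finite_of_isNoetherianRing S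
  have hprime : ∀ P : ι, P.1.IsPrime := fun P => P.2.1.1
  let N : ι → Type u := fun P => integralClosure (S ⧸ P.1) (FractionRing (S ⧸ P.1))
  -- elements of `A` are nonzerodivisors in `S`
  have hreg : ∀ r : A, r ≠ 0 → IsSMulRegular S (algebraMap A S r) := by
    intro r hr
    have h1 : IsSMulRegular A r := by
      intro a b hab
      exact mul_left_cancel₀ hr hab
    exact h1.of_flat
  have hinj : ∀ P : ι, Function.Injective (algebraMap A (S ⧸ P.1)) := by
    intro P
    rw [injective_iff_map_eq_zero]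
    intro r hr
    by_contra hr0
    have hrP : algebraMap A S r ∈ P.1 := by
      rw [← Ideal.Quotient.eq_zero_iff_mem]
      exact hr
    apply notMem_nonZeroDivisors_of_mem_mem_minimalPrimes hrP P.2
    rw [mem_nonZeroDivisors_iff_right]
    intro b hb
    apply hreg r hr0
    simp only [smul_eq_mul, mul_zero]
    rw [mul_comm]; exact hb
  have hNoeth : ∀ P : ι, IsNoetherianRing (N P) := by
    intro P
    have h1 : Module.Finite (S ⧸ P.1) (N P) :=
      hNag.2 P.1 (FractionRing (S ⧸ P.1)) inferInstance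
    exact IsNoetherianRing.of_finite (S ⧸ P.1) (N P)
  have hic : ∀ P : ι, IsIntegrallyClosed (N P) := fun P =>
    integralClosure.isIntegrallyClosedOfFiniteExtension (K := FractionRing (S ⧸ P.1))
      (L := FractionRing (S ⧸ P.1))
  have hNinj : ∀ P : ι, Function.Injective (algebraMap A (N P)) := by
    intro P x y hxy
    apply hinj P
    apply IsFractionRing.injective (S ⧸ P.1) (FractionRing (S ⧸ P.1))
    rw [← IsScalarTower.algebraMap_apply, ← IsScalarTower.algebraMap_apply]
    exact congrArg (fun z : N P => (z : FractionRing (S ⧸ P.1))) hxy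
  have h1 : ∀ P : ι, ∃ z : D ⊗[A] N P, d ⊗ₜ[A] (1 : N P) = a • z := by
    intro P
    obtain ⟨c, hc⟩ := dvd_of_sq_eq (N := N P) (D := N P ⊗[A] D) (hred.baseChange (N P))
      (algebraMap A (N P) a) (fun h => ha (hNinj P (h.trans (map_zero _).symm))) (1 ⊗ₜ d) (by
        rw [Algebra.TensorProduct.tmul_pow, one_pow, hd, TensorProduct.tmul_smul, algebraMap_smul])
    refine ⟨TensorProduct.comm A (N P) D c, ?_⟩
    have h2 := congrArg (TensorProduct.comm A (N P) D) hc
    rw [TensorProduct.comm_tmul, algebraMap_smul, map_smul] at h2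
    exact h2
  obtain ⟨z, hz⟩ := exists_tmul_pi (A := A) N a (fun _ => 1) d h1
  refine ⟨divIdeal a (fun P : ι => (1 : N P)), mem_smul_top_of_tmul a _ d z hz, ?_⟩
  intro x hx K _ _ _ y hy haK
  obtain ⟨m, hm⟩ := mem_divIdeal.1 hx
  obtain ⟨F, hF, hFx⟩ := exists_scaleRoots_of_minimalPrimes (algebraMap A S a) (algebraMap A S x) (by
    intro P hP
    have hm' := congrArg (fun f : ∀ P : ι, N P => (f ⟨P, hP⟩ : FractionRing (S ⧸ P))) hm
    have hPp : P.IsPrime := hP.1.1
    refine exists_scaleRoots_mod P (L := FractionRing (S ⧸ P)) (IsFractionRing.injective _ _) _ _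
      (m ⟨P, hP⟩ : FractionRing (S ⧸ P)) ?_ (m ⟨P, hP⟩).2
    have e1 : ((x • (1 : N ⟨P, hP⟩) : N ⟨P, hP⟩) : FractionRing (S ⧸ P)) =
        algebraMap (S ⧸ P) (FractionRing (S ⧸ P)) (Ideal.Quotient.mk P (algebraMap A S x)) := by
      change x • (1 : FractionRing (S ⧸ P)) = _
      rw [Algebra.smul_def, mul_one, IsScalarTower.algebraMap_apply A (S ⧸ P) (FractionRing (S ⧸ P))]
      rfl
    have e2 : ((a • m ⟨P, hP⟩ : N ⟨P, hP⟩) : FractionRing (S ⧸ P)) =
        algebraMap (S ⧸ P) (FractionRing (S ⧸ P)) (Ideal.Quotient.mk P (algebraMap A S a)) *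
          (m ⟨P, hP⟩ : FractionRing (S ⧸ P)) := by
      change a • (m ⟨P, hP⟩ : FractionRing (S ⧸ P)) = _
      rw [Algebra.smul_def, IsScalarTower.algebraMap_apply A (S ⧸ P) (FractionRing (S ⧸ P))]
      rfl
    exact e2.symm.trans (hm'.symm.trans e1))
  exact isIntegral_of_scaleRoots a x F hF hFx y hy haK

/-- Idempotents of the generic fibre extend over integrally closed domains. -/
theorem exists_tmul {A D : Type u} [CommRing A] [IsDomain A] [IsLocalRing A] [IsNoetherianRing A]
    [CommRing D] [Algebra A D] [Module.Flat A D] (hred : RedFib A D) (a : A) (ha : a ≠ 0) (d : D)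
    (hd : d ^ 2 = a • d) (A' : Type u) [CommRing A'] [IsDomain A'] [IsIntegrallyClosed A'] [Algebra A A']
    (hinj : Function.Injective (algebraMap A A')) : ∃ z : D ⊗[A] A', d ⊗ₜ[A] (1 : A') = a • z := by
  obtain ⟨J, hJ, H⟩ := exists_ideal hred a ha d hd
  have ha' : algebraMap A A' a ≠ 0 := fun h => ha (hinj (h.trans (map_zero _).symm))
  let K := FractionRing A'
  have haK : algebraMap A K a ≠ 0 := by
    rw [IsScalarTower.algebraMap_apply A A' K]
    exact fun h => ha' (IsFractionRing.injective A' K (h.trans (map_zero _).symm))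
  have key : ∀ x ∈ J, ∃ y : A', algebraMap A A' a * y = algebraMap A A' x := by
    intro x hx
    have h1 := H x hx K (algebraMap A K x / algebraMap A K a) (by rw [mul_div_cancel₀ _ haK]) haK
    have h2 : IsIntegral A' (algebraMap A K x / algebraMap A K a) := h1.tower_top
    obtain ⟨y, hy⟩ := IsIntegrallyClosed.isIntegral_iff.1 h2
    refine ⟨y, IsFractionRing.injective A' K ?_⟩
    rw [map_mul, hy, ← IsScalarTower.algebraMap_apply, ← IsScalarTower.algebraMap_apply,
      mul_div_cancel₀ _ haK]
  refine Submodule.smul_induction_on hJ ?_ ?_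
  · intro x hx w _
    obtain ⟨y, hy⟩ := key x hx
    refine ⟨w ⊗ₜ y, ?_⟩
    rw [TensorProduct.smul_tmul, ← TensorProduct.tmul_smul, Algebra.smul_def, mul_one, ← hy,
      Algebra.smul_def]
  · rintro x y ⟨z, hz⟩ ⟨w, hw⟩
    exact ⟨z + w, by rw [TensorProduct.add_tmul, hz, hw, smul_add]⟩

end Groth.Agent.Etbc.H192.CoreNoeth
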