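import Groth.Agent.Etbc.H192.ConnAlg2
import Groth.Agent.Etbc.H192.ZeroAcyc
import Groth.Agent.Sga1.UlaSL
import Groth.Agent.Pi1C.StrictHensWE

/-!
# Strict localizations of morphisms with a Noetherian model

`g : X ⟶ Y` with a local model `Spec C ⟶ Spec R` (`R` Noetherian, `C` flat over `R` with reduced fibres) around a
point; then every map of strict localizations of a base change of `g` is flat with connected geometric fibres.
-/

set_option autoImplicit false

universe u

open TensorProduct IsLocalRing CategoryTheory CategoryTheory.Limits AlgebraicGeometry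

namespace Groth.Agent.Etbc.H192.Glue

open NormalIdem ConnAlg ConnAlg2
open Groth.Agent.Etrest.StrictLoc Groth.Agent.Sga1.UlaSL Groth.Agent.Etbc.H192.ZeroAcyc

/-- A morphism from the spectrum of a local ring factors through every open immersion hitting the image of the
closed point. -/
theorem exists_lift {A : Type u} [CommRing A] [IsLocalRing A] {U X : Scheme.{u}} (j : U ⟶ X) [IsOpenImmersion j]
    (a : Spec (CommRingCat.of A) ⟶ X) (h : a (closedPoint A) ∈ Set.range j) :
    ∃ a' : Spec (CommRingCat.of A) ⟶ U, a' ≫ j = a := by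
  refine ⟨IsOpenImmersion.lift j a ?_, IsOpenImmersion.lift_fac _ _ _⟩
  rintro _ ⟨x, rfl⟩
  have hx : x ⤳ (closedPoint A : Spec (CommRingCat.of A)) := IsLocalRing.specializes_closedPoint (R := A) x
  exact hx.mem_open (a ⁻¹ᵁ j.opensRange).2 h

theorem icbc_of_stalk {E B : Type u} [CommRing E] [CommRing B] [IsLocalRing B] [Algebra E B]
    (q : PrimeSpectrum E) [Algebra ((Spec (CommRingCat.of E)).presheaf.stalk q) B]
    [IsLocalHom (algebraMap ((Spec (CommRingCat.of E)).presheaf.stalk q) B)]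
    [Hensel.IsStrictHenselization ((Spec (CommRingCat.of E)).presheaf.stalk q) B]
    (h4 : Hens2.specOf (Spec (CommRingCat.of E)) q B = spm (algebraMap E B)) : ICBC E B := by
  let _ : Algebra E ((Spec (CommRingCat.of E)).presheaf.stalk q) :=
    (show Algebra E ((Spec.structureSheaf E).presheaf.stalk q) from inferInstance)
  have hloc : IsLocalization.AtPrime ((Spec (CommRingCat.of E)).presheaf.stalk q) q.asIdeal :=
    (show IsLocalization.AtPrime ((Spec.structureSheaf E).presheaf.stalk q) q.asIdeal from inferInstance)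
  have h5 : (Spec (CommRingCat.of E)).fromSpecStalk q =
      spm (algebraMap E ((Spec (CommRingCat.of E)).presheaf.stalk q)) :=
    Spec.fromSpecStalk_eq' (CommRingCat.of E) q
  have hst : IsScalarTower E ((Spec (CommRingCat.of E)).presheaf.stalk q) B := by
    refine IsScalarTower.of_algebraMap_eq' ?_
    have h6 : spm ((algebraMap ((Spec (CommRingCat.of E)).presheaf.stalk q) B).comp
        (algebraMap E ((Spec (CommRingCat.of E)).presheaf.stalk q))) = spm (algebraMap E B) := by
      rw [spm_comp, ← h5]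
      exact h4
    exact (spm_inj.1 h6).symm
  exact (ICBC.of_isLocalization (E := E) (B := (Spec (CommRingCat.of E)).presheaf.stalk q)
    q.asIdeal.primeCompl).trans (ICBC.of_lazard
      (Groth.Agent.Pi1C.StrictHensWE.lazard_of_isStrictHenselization
        ((Spec (CommRingCat.of E)).presheaf.stalk q) B))

/-- strict localizations of affine schemes: integral closures commute with base change. -/
theorem icbc_of_isStrictLoc {E B : Type u} [CommRing E] [CommRing B] [IsLocalRing B] [Algebra E B]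
    (h : IsStrictLoc (spm (algebraMap E B))) : ICBC E B := by
  obtain ⟨i1, i2, i3, h4⟩ := exists_specOf h _ rfl
  exact icbc_of_stalk _ h4

/-- The main glue: strict localizations of base changes of a morphism with a Noetherian local model. -/
theorem main {X Y X₁ Y₁ : Scheme.{u}} {g : X ⟶ Y} {g₁ : X₁ ⟶ Y₁} {b' : X₁ ⟶ X} {b : Y₁ ⟶ Y}
    (h : IsPullback b' g₁ g b) {A B : Type u} [CommRing A] [IsLocalRing A] [CommRing B] [IsLocalRing B]
    {τ₀ : Spec (CommRingCat.of A) ⟶ Y₁} (hτ₀ : IsStrictLoc τ₀) {σ₀ : Spec (CommRingCat.of B) ⟶ X₁}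
    (hσ₀ : IsStrictLoc σ₀) (β : A →+* B) [IsLocalHom β] (hβ : spm β ≫ τ₀ = σ₀ ≫ g₁)
    {U V : Scheme.{u}} (j : U ⟶ X) [IsOpenImmersion j] (i : V ⟶ Y) [IsOpenImmersion i] (g' : U ⟶ V)
    (hsq : g' ≫ i = j ≫ g) (hx : b' (σ₀ (closedPoint B)) ∈ Set.range j)
    {R C : Type u} [CommRing R] [CommRing C] [Algebra R C] [IsNoetherianRing R] [Module.Flat R C]
    (hC : RedFib R C) (v : V ⟶ Spec (CommRingCat.of R)) (c : U ⟶ Spec (CommRingCat.of C))
    (hpb : IsPullback c g' (spm (algebraMap R C)) v) : Flat (spm β) ∧ SepGeomConnected (spm β) := by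
  have hwe₀ : WeaklyEtale τ₀ := weaklyEtale_of_isStrictLoc hτ₀
  -- lift to `U` and `V`
  obtain ⟨σU, hσU⟩ := exists_lift j (σ₀ ≫ b') hx
  obtain ⟨τV, hτV⟩ := exists_lift i (τ₀ ≫ b) (by
    obtain ⟨w, hw⟩ := hx
    refine ⟨g' w, ?_⟩
    have e1 : (τ₀ ≫ b) (closedPoint A) = (σ₀ ≫ b' ≫ g) (closedPoint B) := by
      rw [h.w, ← reassoc_of% hβ, ← closedPoint_map β]
      rfl
    rw [e1]
    change (g' ≫ i) w = g (b' (σ₀ (closedPoint B)))
    rw [hsq, ← hw]
    rfl)
  have hUV : spm β ≫ τV = σU ≫ g' := by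
    rw [← cancel_mono i, Category.assoc, Category.assoc, hτV, hsq, reassoc_of% hσU, h.w, reassoc_of% hβ]
  -- ring maps
  obtain ⟨ρ, hρ⟩ : ∃ ρ : R →+* A, spm ρ = τV ≫ v := ⟨(Spec.preimage (τV ≫ v)).hom, Spec.map_preimage _⟩
  obtain ⟨γ, hγ⟩ : ∃ γ : C →+* B, spm γ = σU ≫ c := ⟨(Spec.preimage (σU ≫ c)).hom, Spec.map_preimage _⟩
  have hcomp : β.comp ρ = γ.comp (algebraMap R C) := by
    rw [← spm_inj, spm_comp, spm_comp, hρ, hγ, reassoc_of% hUV, Category.assoc, hpb.w]
  let _ : Algebra R A := ρ.toAlgebra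
  let _ : Algebra A B := β.toAlgebra
  let _ : Algebra R B := (β.comp ρ).toAlgebra
  have hst1 : IsScalarTower R A B := IsScalarTower.of_algebraMap_eq fun _ => rfl
  let γ' : C →ₐ[R] B := { γ with commutes' := fun r => (RingHom.congr_fun hcomp r).symm }
  let E := A ⊗[R] C
  let ε : E →ₐ[A] B := Algebra.TensorProduct.lift (Algebra.ofId A B) γ' (fun _ _ => Commute.all _ _)
  let _ : Algebra E B := ε.toRingHom.toAlgebra
  have hst2 : IsScalarTower A E B := IsScalarTower.of_algebraMap_eq fun a => (ε.commutes a).symm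
  -- the geometric side
  let pE : Spec (CommRingCat.of E) ⟶ Spec (CommRingCat.of A) := spm (algebraMap A E)
  let cE : Spec (CommRingCat.of E) ⟶ Spec (CommRingCat.of C) :=
    spm (Algebra.TensorProduct.includeRight : C →ₐ[R] A ⊗[R] C).toRingHom
  have hE : IsPullback cE pE (spm (algebraMap R C)) (spm (algebraMap R A)) :=
    (isPullback_SpecMap_of_isPushout _ _ _ _ (CommRingCat.isPushout_tensorProduct R A C)).flip
  have hρ' : spm (algebraMap R A) = τV ≫ v := hρ
  let uE : Spec (CommRingCat.of E) ⟶ U := hpb.lift cE (pE ≫ τV) (by rw [hE.w, hρ', Category.assoc])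
  have huE1 : uE ≫ c = cE := hpb.lift_fst _ _ _
  have huE2 : uE ≫ g' = pE ≫ τV := hpb.lift_snd _ _ _
  have hE2 : IsPullback uE pE g' τV := by
    refine IsPullback.of_right (h₁₂ := c) (v₁₃ := spm (algebraMap R C)) (h₂₂ := v) ?_ huE2 hpb
    rw [huE1, ← hρ']
    exact hE
  have hE3 : IsPullback uE pE (j ≫ g) (τ₀ ≫ b) := by
    have h1 : IsPullback uE pE (g' ≫ i) (τV ≫ i) :=
      IsPullback.of_isLimit (PullbackCone.isLimitOfCompMono _ _ i _ hE2.isLimit)
    rwa [hsq, hτV] at h1
  let q : Spec (CommRingCat.of E) ⟶ X₁ := h.lift (uE ≫ j) (pE ≫ τ₀) (by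
    rw [Category.assoc, Category.assoc, hE3.w])
  have hq1 : q ≫ b' = uE ≫ j := h.lift_fst _ _ _
  have hq2 : q ≫ g₁ = pE ≫ τ₀ := h.lift_snd _ _ _
  have hqw : WeaklyEtale q := by
    have e1 : q = hE3.isoPullback.hom ≫ pullback.map (j ≫ g) (τ₀ ≫ b) g b j τ₀ (𝟙 _)
        (by simp) (by simp) ≫ h.isoPullback.inv := by
      apply h.hom_ext
      · rw [hq1, Category.assoc, Category.assoc, h.isoPullback_inv_fst, pullback.lift_fst,
          ← Category.assoc, hE3.isoPullback_hom_fst]
      · rw [hq2, Category.assoc, Category.assoc, h.isoPullback_inv_snd, pullback.lift_snd,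
          ← Category.assoc, hE3.isoPullback_hom_snd]
    have e2 : WeaklyEtale (pullback.map (j ≫ g) (τ₀ ≫ b) g b j τ₀ (𝟙 _) (by simp) (by simp)) :=
      MorphismProperty.pullbackMap (P := @WeaklyEtale) (inferInstanceAs (WeaklyEtale j)) hwe₀ rfl rfl
    rw [e1]
    infer_instance
  have hεq : spm (algebraMap E B) ≫ q = σ₀ := by
    have e1 : spm (algebraMap E B) ≫ pE = spm β := by
      rw [← spm_comp, ← IsScalarTower.algebraMap_eq A E B]
    have e2 : spm (algebraMap E B) ≫ cE = spm γ := by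
      rw [← spm_comp]
      congr 2
      ext x
      change ε (1 ⊗ₜ x) = γ x
      rw [Algebra.TensorProduct.lift_tmul, map_one, one_mul]
      rfl
    have e3 : spm (algebraMap E B) ≫ uE = σU := by
      apply hpb.hom_ext
      · rw [Category.assoc, huE1, e2, hγ]
      · rw [Category.assoc, huE2, reassoc_of% e1, hUV]
    apply h.hom_ext
    · rw [Category.assoc, hq1, reassoc_of% e3, hσU]
    · rw [Category.assoc, hq2, reassoc_of% e1, hβ]
  have hSL : IsStrictLoc (spm (algebraMap E B)) := IsStrictLoc.of_comp q (by rw [hεq]; exact hσ₀)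
  have hicbc := icbc_of_isStrictLoc hSL
  have hwE : WeaklyEtale (spm (algebraMap E B)) := weaklyEtale_of_isStrictLoc hSL
  have hfl : Module.Flat E B := by
    have h1 : Flat (Spec.map (CommRingCat.ofHom (algebraMap E B))) := inferInstance
    exact (HasRingHomProperty.Spec_iff (P := @Flat)).1 h1
  have hfl2 : Module.Flat A B := Module.Flat.trans A E B
  have hlh : IsLocalHom (algebraMap A B) := inferInstanceAs (IsLocalHom β)
  have := hτ₀.henselian
  have := hτ₀.sepClosed
  refine ⟨?_, ?_⟩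
  · exact (HasRingHomProperty.Spec_iff (P := @Flat)).2 hfl2
  · apply sepGeomConnected_of_algClosed
    intro Ω _ _ s
    obtain ⟨ω, hω⟩ : ∃ ω : A →+* Ω, spm ω = s := ⟨(Spec.preimage s).hom, Spec.map_preimage _⟩
    let _ : Algebra A Ω := ω.toAlgebra
    have h1 : ConnectedSpace (PrimeSpectrum (Ω ⊗[A] B)) := ConnAlg2.connectedSpace hC hicbc Ω
    rw [← hω]
    let e := pullbackSpecIso A Ω B
    have h2 : ConnectedSpace (Spec (CommRingCat.of (Ω ⊗[A] B))) := h1
    exact (Scheme.homeoOfIso e).symm.surjective.connectedSpace (Scheme.homeoOfIso e).symm.continuous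

end Groth.Agent.Etbc.H192.Glue
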