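import Groth.Agent.Etbc.H192.CoreInt
import Mathlib.LinearAlgebra.TensorProduct.Finiteness

/-!
# Flat algebras with reduced fibres are integrally closed in the generic fibre, over normal local domains

* `mem_range_of_isIntegralElem` : `R` Noetherian, `C` flat over `R` with reduced fibres (over all fields), `A'` a
  local integrally closed domain over `R` (not necessarily Noetherian), `K = Frac A'`; every element of `K ⊗[R] C`
  integral over `A' ⊗[R] C` lies in `A' ⊗[R] C`.
-/

set_option autoImplicit false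

universe u

open TensorProduct IsLocalRing

namespace Groth.Agent.Etbc.H192.IntClosed

open NormalIdem NormalInt CplInt

/-- Finitely many elements of `A' ⊗[R] C` come from `N ⊗[R] C` with `N` a finitely generated subalgebra containing
given elements. -/
theorem exists_subalgebra {R A' C : Type u} [CommRing R] [CommRing A'] [Algebra R A'] [CommRing C] [Algebra R C]
    (s : Finset (A' ⊗[R] C)) (t : Finset A') :
    ∃ N : Subalgebra R A', N.FG ∧ (∀ x ∈ t, x ∈ N) ∧
      ∀ x ∈ s, x ∈ (Algebra.TensorProduct.map N.val (AlgHom.id R C)).range := by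
  classical
  obtain ⟨M', hM', hs⟩ := TensorProduct.exists_finite_submodule_left_of_setFinite (s : Set (A' ⊗[R] C))
    s.finite_toSet
  obtain ⟨u, hu⟩ := (Module.Finite.iff_fg.1 hM')
  let N : Subalgebra R A' := Algebra.adjoin R ((u ∪ t : Finset A') : Set A')
  have hM'N : M' ≤ Subalgebra.toSubmodule N := by
    rw [← hu, Submodule.span_le]
    intro x hx
    exact Algebra.subset_adjoin (by simp only [Finset.coe_union]; exact Or.inl hx)
  refine ⟨N, ⟨u ∪ t, rfl⟩, ?_, ?_⟩
  · intro x hx
    exact Algebra.subset_adjoin (by simp only [Finset.coe_union]; exact Or.inr hx)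
  · intro x hx
    obtain ⟨y, hy⟩ := hs hx
    let ι : M' →ₗ[R] N := Submodule.inclusion hM'N
    refine ⟨TensorProduct.map ι LinearMap.id y, ?_⟩
    rw [← hy]
    change (TensorProduct.map N.val.toLinearMap LinearMap.id) (TensorProduct.map ι LinearMap.id y) = _
    rw [← LinearMap.comp_apply, ← TensorProduct.map_comp]
    rfl

section

variable {R C A' K : Type u} [CommRing R] [CommRing C] [Algebra R C] [CommRing A'] [IsDomain A'] [Algebra R A']
  [Field K] [Algebra A' K] [IsFractionRing A' K] [Algebra R K] [IsScalarTower R A' K]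

/-- The map `A' ⊗ C → K ⊗ C`. -/
noncomputable def incl (R C A' K : Type u) [CommRing R] [CommRing C] [Algebra R C] [CommRing A'] [Algebra R A']
    [Field K] [Algebra A' K] [Algebra R K] [IsScalarTower R A' K] : A' ⊗[R] C →ₐ[A'] K ⊗[R] C :=
  Algebra.TensorProduct.map (Algebra.ofId A' K) (AlgHom.id R C)

omit [IsDomain A'] [IsFractionRing A' K] in
theorem incl_tmul (a : A') (c : C) : incl R C A' K (a ⊗ₜ c) = algebraMap A' K a ⊗ₜ c := rfl

omit [IsDomain A'] in
theorem incl_injective [Module.Flat R C] : Function.Injective (incl R C A' K) := by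
  have h := Module.Flat.rTensor_preserves_injective_linearMap (M := C)
    (IsScalarTower.toAlgHom R A' K).toLinearMap (IsFractionRing.injective A' K)
  have e : ∀ x, incl R C A' K x = LinearMap.rTensor C (IsScalarTower.toAlgHom R A' K).toLinearMap x := by
    intro x
    induction x using TensorProduct.induction_on with
    | zero => simp
    | tmul a c => rfl
    | add x y hx hy => rw [map_add, map_add, hx, hy]
  intro x y hxy
  exact h ((e x).symm.trans (hxy.trans (e y)))

theorem exists_smul_eq_incl (x : K ⊗[R] C) : ∃ (a : A') (_ : a ≠ 0) (b : A' ⊗[R] C),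
    a • x = incl R C A' K b := by
  induction x using TensorProduct.induction_on with
  | zero => exact ⟨1, one_ne_zero, 0, by simp⟩
  | tmul k c =>
    obtain ⟨n, d, hd, rfl⟩ := IsFractionRing.div_surjective (A := A') k
    refine ⟨d, nonZeroDivisors.ne_zero hd, n ⊗ₜ c, ?_⟩
    rw [incl_tmul, TensorProduct.smul_tmul', Algebra.smul_def, mul_div_cancel₀]
    intro h
    exact nonZeroDivisors.ne_zero hd (IsFractionRing.injective A' K (h.trans (map_zero _).symm))
  | add x y hx hy =>
    obtain ⟨a, ha, b, hb⟩ := hx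
    obtain ⟨a', ha', b', hb'⟩ := hy
    refine ⟨a * a', mul_ne_zero ha ha', a' • b + a • b', ?_⟩
    rw [smul_add, map_add, map_smul, map_smul, ← hb, ← hb', smul_smul, smul_smul, mul_comm a' a]

/-- Elements of the generic fibre integral over `A' ⊗ C` are in `A' ⊗ C`. -/
theorem mem_range_of_isIntegralElem [IsNoetherianRing R] [Module.Flat R C] (hC : RedFib R C)
    [IsLocalRing A'] [IsIntegrallyClosed A'] (x : K ⊗[R] C)
    (hx : (incl R C A' K).toRingHom.IsIntegralElem x) : x ∈ (incl R C A' K).range := by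
  classical
  obtain ⟨F, hF, hFx⟩ := hx
  obtain ⟨a, ha, b, hab⟩ := exists_smul_eq_incl (A' := A') x
  have hinj : Function.Injective (incl R C A' K) := incl_injective
  -- the integral equation for `b`
  have h1 := intDiv_of_aeval a (incl R C A' K b) x hab (F.map (incl R C A' K).toRingHom) (hF.map _)
    (by rw [Polynomial.eval_map]; exact hFx)
  set n := (F.map (incl R C A' K).toRingHom).natDegree with hn
  have h2 : b ^ n = ∑ i ∈ Finset.range n, a ^ (n - i) • ((- F.coeff i) * b ^ i) := by
    apply hinj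
    rw [map_pow, h1, map_sum]
    refine Finset.sum_congr rfl fun i _ => ?_
    rw [map_smul, map_mul, map_neg, map_pow, Polynomial.coeff_map]
    rfl
  -- descend to a finitely generated subalgebra
  obtain ⟨N, hNfg, hNa, hNs⟩ := exists_subalgebra
    (insert b ((Finset.range n).image fun i => F.coeff i)) ({a} : Finset A')
  have haN : a ∈ N := hNa a (by simp)
  let ψ : N ⊗[R] C →ₐ[R] A' ⊗[R] C := Algebra.TensorProduct.map N.val (AlgHom.id R C)
  have hψ : Function.Injective ψ :=
    Module.Flat.rTensor_preserves_injective_linearMap (M := C) N.val.toLinearMap Subtype.val_injective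
  obtain ⟨b₀, hb₀⟩ : b ∈ ψ.range := hNs b (by simp)
  have hc : ∀ i ∈ Finset.range n, ∃ c : N ⊗[R] C, ψ c = F.coeff i := fun i hi =>
    hNs (F.coeff i) (by simp only [Finset.mem_insert, Finset.mem_image]; exact Or.inr ⟨i, hi, rfl⟩)
  choose! c hc using hc
  have hsm : ∀ (r : N) (y : N ⊗[R] C), ψ (r • y) = (r : A') • ψ y := by
    intro r y
    induction y using TensorProduct.induction_on with
    | zero => simp
    | tmul m d =>
      rw [TensorProduct.smul_tmul']
      change (N.val (r • m)) ⊗ₜ[R] d = (r : A') • ((N.val m) ⊗ₜ[R] d)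
      rw [TensorProduct.smul_tmul']
      rfl
    | add y z hy hz => rw [smul_add, map_add, hy, hz, map_add, smul_add]
  have h3 : IntDiv (⟨a, haN⟩ : N) b₀ := by
    refine ⟨n, fun i => - c i, ?_⟩
    apply hψ
    rw [map_pow, map_sum]
    refine (congrArg (· ^ n) hb₀).trans (h2.trans (Finset.sum_congr rfl fun i hi => ?_))
    have e1 : (⟨a, haN⟩ : N) ^ (n - i) • (-c i * b₀ ^ i) =
      ((⟨a, haN⟩ : N) ^ (n - i)) • (-c i * b₀ ^ i) := rfl
    rw [hsm, map_mul, map_neg, map_pow, hc i hi]
    exact congrArg (fun z => a ^ (n - i) • (-F.coeff i * z ^ i)) hb₀.symm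
  -- localize
  have hNnoeth : IsNoetherianRing N := by
    have : Algebra.FiniteType R N := N.fg_iff_finiteType.1 hNfg
    exact Algebra.FiniteType.isNoetherianRing R N
  let P : Ideal N := (maximalIdeal A').comap (algebraMap N A')
  have hP : P.IsPrime := Ideal.comap_isPrime _ _
  let A₁ := Localization.AtPrime P
  have hA₁ : IsNoetherianRing A₁ := IsLocalization.isNoetherianRing P.primeCompl _ inferInstance
  have hA₁d : IsDomain A₁ := IsLocalization.isDomain_localization P.primeCompl_le_nonZeroDivisors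
  have hunit : ∀ y : P.primeCompl, IsUnit (algebraMap N A' y) := by
    intro y
    by_contra hy
    exact y.2 ((mem_maximalIdeal _).2 hy)
  let φ₁ : A₁ →+* A' := IsLocalization.lift (M := P.primeCompl) hunit
  have hφ₁ : ∀ r : N, φ₁ (algebraMap N A₁ r) = r := fun r => IsLocalization.lift_eq hunit r
  let _ : Algebra A₁ A' := φ₁.toAlgebra
  have hst : IsScalarTower N A₁ A' := IsScalarTower.of_algebraMap_eq fun r => (hφ₁ r).symm
  have hst2 : IsScalarTower R A₁ A' := IsScalarTower.of_algebraMap_eq fun r => by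
    rw [IsScalarTower.algebraMap_apply R N A₁, RingHom.algebraMap_toAlgebra, hφ₁]
    rfl
  have hinj₁ : Function.Injective (algebraMap A₁ A') := by
    rw [injective_iff_map_eq_zero]
    intro y hy
    obtain ⟨⟨r, s⟩, rfl⟩ := IsLocalization.mk'_surjective P.primeCompl y
    change φ₁ (IsLocalization.mk' A₁ r s) = 0 at hy
    have h4 : (r : A') = 0 := by
      have h5 := congrArg φ₁ (IsLocalization.mk'_spec A₁ r s)
      rw [map_mul, hy, zero_mul, hφ₁] at h5
      exact h5.symm
    have h6 : r = 0 := Subtype.ext h4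
    change IsLocalization.mk' A₁ r s = 0
    rw [h6, IsLocalization.mk'_zero]
  let lam : N ⊗[R] C →ₐ[N] A₁ ⊗[R] C := Algebra.TensorProduct.map (Algebra.ofId N A₁) (AlgHom.id R C)
  have h4' : IntDiv (⟨a, haN⟩ : N) (lam b₀) := IntDiv.map (D' := A₁ ⊗[R] C) h3 lam
  have h4 : IntDiv (algebraMap N A₁ ⟨a, haN⟩) (lam b₀) :=
    IntDiv.tower (N := N) (N' := A₁) (D := A₁ ⊗[R] C) h4'
  obtain ⟨z, hz⟩ := CoreInt.exists_tmul (A := A₁) (D := A₁ ⊗[R] C) (hC.baseChange A₁)
    (algebraMap N A₁ ⟨a, haN⟩) (fun h => ha (by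
      have := congrArg φ₁ h
      rw [hφ₁, map_zero] at this
      exact this)) (lam b₀) h4 A' hinj₁
  -- transport to `A' ⊗ C`
  let Θ : (A₁ ⊗[R] C) ⊗[A₁] A' →ₐ[A₁] A' ⊗[R] C :=
    Algebra.TensorProduct.lift (Algebra.TensorProduct.map (IsScalarTower.toAlgHom A₁ A₁ A') (AlgHom.id R C))
      (IsScalarTower.toAlgHom A₁ A' (A' ⊗[R] C)) (fun _ _ => Commute.all _ _)
  have hΘ : ∀ y : N ⊗[R] C, Θ (lam y ⊗ₜ 1) = ψ y := by
    intro y
    induction y using TensorProduct.induction_on with
    | zero => simp
    | tmul m d =>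
      change Θ ((algebraMap N A₁ m ⊗ₜ[R] d) ⊗ₜ[A₁] 1) = (m : A') ⊗ₜ[R] d
      rw [Algebra.TensorProduct.lift_tmul, map_one, mul_one]
      change (φ₁ (algebraMap N A₁ m)) ⊗ₜ[R] d = _
      rw [hφ₁]
    | add y z hy hz => rw [map_add, TensorProduct.add_tmul, map_add, hy, hz, map_add]
  have h5 : b = a • Θ z := by
    have h6 := congrArg Θ hz
    rw [hΘ, map_smul] at h6
    refine hb₀.symm.trans (h6.trans ?_)
    rw [← algebraMap_smul A' (algebraMap N A₁ ⟨a, haN⟩) (Θ z)]
    congr 1
    exact hφ₁ ⟨a, haN⟩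
  refine ⟨Θ z, ?_⟩
  have h6 : a • (incl R C A' K (Θ z)) = a • x := by
    rw [← map_smul, ← h5, hab]
  have haK : algebraMap A' K a ≠ 0 := fun h =>
    ha (IsFractionRing.injective A' K (h.trans (map_zero _).symm))
  have h7 : algebraMap A' K a • (incl R C A' K (Θ z)) = algebraMap A' K a • x := by
    rw [algebraMap_smul, algebraMap_smul]; exact h6
  have h8 := congrArg (fun y => (algebraMap A' K a)⁻¹ • y) h7
  simp only [smul_smul, inv_mul_cancel₀ haK, one_smul] at h8
  exact h8

end

end Groth.Agent.Etbc.H192.IntClosed
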