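import Groth.Agent.Etbc.H192.Glue
import Groth.Agent.S1461
import Groth.Agent.FlatB.FlatDescGlobal

/-!
# Noetherian local models of flat morphisms with geometrically reduced fibres
-/

set_option autoImplicit false

universe u

open TensorProduct IsLocalRing CategoryTheory CategoryTheory.Limits AlgebraicGeometry

namespace Groth.Agent.Etbc.H192.Model

open NormalIdem ConnAlg ConnAlg2
open Groth.Agent.Etrest.StrictLoc

/-- the fibres of `g` over fields are reduced. -/
def FibRed {X Y : Scheme.{u}} (g : X ⟶ Y) : Prop :=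
  ∀ (K : Type u) [Field K] (k : Spec (CommRingCat.of K) ⟶ Y), IsReduced (pullback g k)

theorem FibRed.geometricallyReduced {X Y : Scheme.{u}} {g : X ⟶ Y} (h : FibRed g) : GeometricallyReduced g := by
  rw [geometricallyReduced_iff]
  intro κ _ y Z fst snd hZ
  have := h κ y
  exact isReduced_of_isOpenImmersion hZ.isoPullback.hom

theorem fibRed_of_geometricallyReduced {X Y : Scheme.{u}} (g : X ⟶ Y) [GeometricallyReduced g] : FibRed g :=
  fun K _ y => ((geometricallyReduced_iff g).1 inferInstance) y _ _ (IsPullback.of_hasPullback g y)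

/-- restriction of source and target to open subschemes. -/
theorem FibRed.of_square {X Y U V : Scheme.{u}} {g : X ⟶ Y} (h : FibRed g) (j : U ⟶ X) [IsOpenImmersion j]
    (i : V ⟶ Y) [IsOpenImmersion i] (g' : U ⟶ V) (hsq : g' ≫ i = j ≫ g) : FibRed g' := by
  intro K _ k
  have := h K (k ≫ i)
  have h1 : IsPullback (pullback.fst g' k) (pullback.snd g' k) (g' ≫ i) (k ≫ i) :=
    IsPullback.of_isLimit (PullbackCone.isLimitOfCompMono _ _ i _ (IsPullback.of_hasPullback g' k).isLimit)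
  rw [hsq] at h1
  let l : pullback g' k ⟶ pullback g (k ≫ i) := pullback.lift (pullback.fst g' k ≫ j) (pullback.snd g' k)
    (by rw [Category.assoc, h1.w])
  have h2 : IsPullback l (pullback.fst g' k) (pullback.fst g (k ≫ i)) j := by
    refine IsPullback.of_right (h₁₂ := pullback.snd g (k ≫ i)) (v₁₃ := k ≫ i) (h₂₂ := g) ?_ ?_
      (IsPullback.of_hasPullback g (k ≫ i)).flip
    · rw [pullback.lift_snd]
      exact h1.flip
    · exact pullback.lift_fst _ _ _
  have h3 : IsOpenImmersion l := MorphismProperty.of_isPullback (P := @IsOpenImmersion) h2.flip inferInstance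
  exact isReduced_of_isOpenImmersion l

theorem redFib_of_fibRed {R C : Type u} [CommRing R] [CommRing C] [Algebra R C]
    (h : FibRed (spm (algebraMap R C))) : RedFib R C := by
  intro κ _ _
  have h1 := h κ (spm (algebraMap R κ))
  have h2 : IsReduced (Spec (CommRingCat.of (C ⊗[R] κ))) :=
    isReduced_of_isOpenImmersion (pullbackSpecIso R C κ).inv
  exact (affine_isReduced_iff (CommRingCat.of (C ⊗[R] κ))).1 h2

/-- `g` has a Noetherian local model at `x₀`. -/
def HasModel {X Y : Scheme.{u}} (g : X ⟶ Y) (x₀ : X) : Prop :=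
  ∃ (U V : Scheme.{u}) (j : U ⟶ X) (_ : IsOpenImmersion j) (i : V ⟶ Y) (_ : IsOpenImmersion i) (g' : U ⟶ V)
    (_ : g' ≫ i = j ≫ g) (_ : x₀ ∈ Set.range j) (R C : Type u) (_ : CommRing R) (_ : CommRing C)
    (_ : Algebra R C) (_ : IsNoetherianRing R) (_ : Module.Flat R C) (_ : RedFib R C)
    (v : V ⟶ Spec (CommRingCat.of R)) (c : U ⟶ Spec (CommRingCat.of C)),
    IsPullback c g' (spm (algebraMap R C)) v

theorem of_comp_openImmersion {P : MorphismProperty Scheme.{u}} [P.IsStableUnderBaseChange] {X Y Z : Scheme.{u}}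
    (f : X ⟶ Y) (i : Y ⟶ Z) [IsOpenImmersion i] (h : P (f ≫ i)) : P f :=
  MorphismProperty.of_isPullback (P := P) (IsPullback.of_horiz_isIso_mono (fst := 𝟙 X) (snd := f) (f := f ≫ i)
    (g := i) ⟨by simp⟩) h

/-- affine charts -/
theorem exists_chart {X Y : Scheme.{u}} (g : X ⟶ Y) [Flat g] (h : FibRed g) (x₀ : X) :
    ∃ (R C : Type u) (_ : CommRing R) (_ : CommRing C) (_ : Algebra R C) (j : Spec (CommRingCat.of C) ⟶ X)
      (_ : IsOpenImmersion j) (i : Spec (CommRingCat.of R) ⟶ Y) (_ : IsOpenImmersion i),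
      spm (algebraMap R C) ≫ i = j ≫ g ∧ x₀ ∈ Set.range j ∧ Module.Flat R C ∧ FibRed (spm (algebraMap R C)) := by
  obtain ⟨W, hW, hxW, -⟩ := exists_isAffineOpen_mem_and_subset (U := (⊤ : Y.Opens))
    (show g x₀ ∈ (⊤ : Y.Opens) from trivial)
  obtain ⟨U, hU, hxU, hUW⟩ := exists_isAffineOpen_mem_and_subset (U := g ⁻¹ᵁ W)
    (show x₀ ∈ g ⁻¹ᵁ W from hxW)
  let _ : Algebra Γ(Y, W) Γ(X, U) := (g.appLE W U hUW).hom.toAlgebra
  have hsq : spm (algebraMap Γ(Y, W) Γ(X, U)) ≫ hW.fromSpec = hU.fromSpec ≫ g :=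
    IsAffineOpen.SpecMap_appLE_fromSpec g hW hU hUW
  have hflat : Flat (spm (algebraMap Γ(Y, W) Γ(X, U))) := by
    have h1 : Flat (spm (algebraMap Γ(Y, W) Γ(X, U)) ≫ hW.fromSpec) := by rw [hsq]; infer_instance
    exact of_comp_openImmersion (P := @Flat) _ hW.fromSpec h1
  refine ⟨Γ(Y, W), Γ(X, U), inferInstance, inferInstance, inferInstance, hU.fromSpec, inferInstance,
    hW.fromSpec, inferInstance, hsq, ?_, ?_, h.of_square hU.fromSpec hW.fromSpec _ hsq⟩
  · rw [hU.range_fromSpec]; exact hxU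
  · exact RingHom.flat_algebraMap_iff.1 ((HasRingHomProperty.Spec_iff (P := @Flat)).1 hflat)

theorem hasModel_of_isLocallyNoetherian {X Y : Scheme.{u}} (g : X ⟶ Y) [Flat g] [IsLocallyNoetherian Y]
    (h : FibRed g) (x₀ : X) : HasModel g x₀ := by
  obtain ⟨R, C, i1, i2, i3, j, i4, i, i5, hsq, hx, hfl, hf⟩ := exists_chart g h x₀
  have hN : IsLocallyNoetherian (Spec (CommRingCat.of R)) := isLocallyNoetherian_of_isOpenImmersion i
  have hN' : IsNoetherianRing R := (isLocallyNoetherian_Spec (R := CommRingCat.of R)).1 hN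
  exact ⟨_, _, j, i4, i, i5, spm (algebraMap R C), hsq, hx, R, C, i1, i2, i3, hN', hfl, redFib_of_fibRed hf,
    𝟙 _, 𝟙 _, IsPullback.of_horiz_isIso ⟨by simp⟩⟩

/-- Noetherian approximation. -/
theorem exists_approx {R C : Type u} [CommRing R] [CommRing C] [Algebra R C] [Algebra.FinitePresentation R C]
    [Module.Flat R C] (hf : FibRed (spm (algebraMap R C))) :
    ∃ (R₂ C₂ : Type u) (_ : CommRing R₂) (_ : CommRing C₂) (_ : Algebra R₂ C₂) (_ : IsNoetherianRing R₂)
      (_ : Module.Flat R₂ C₂) (_ : RedFib R₂ C₂) (v : Spec (CommRingCat.of R) ⟶ Spec (CommRingCat.of R₂))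
      (c : Spec (CommRingCat.of C) ⟶ Spec (CommRingCat.of C₂)),
      IsPullback c (spm (algebraMap R C)) (spm (algebraMap R₂ C₂)) v := by
  have hgr : GeometricallyReduced (spm (algebraMap R C)) := hf.geometricallyReduced
  have hfp : LocallyOfFinitePresentation (spm (algebraMap R C)) := by
    rw [HasRingHomProperty.Spec_iff (P := @LocallyOfFinitePresentation)]
    exact RingHom.finitePresentation_algebraMap.2 inferInstance
  obtain ⟨X₀, S₀, f₀, g₀, g₀', h1, h2, h3, h4, h5, h6⟩ := Groth.Agent.S1461.result (spm (algebraMap R C))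
  let R₀ : Type u := Γ(S₀, ⊤)
  let C₀ : Type u := Γ(X₀, ⊤)
  let _ : Algebra R₀ C₀ := f₀.appTop.hom.toAlgebra
  have e1 : IsPullback X₀.isoSpec.hom f₀ (spm (algebraMap R₀ C₀)) S₀.isoSpec.hom :=
    IsPullback.of_horiz_isIso ⟨Scheme.isoSpec_hom_naturality f₀⟩
  have e2 : IsPullback (g₀' ≫ X₀.isoSpec.hom) (spm (algebraMap R C)) (spm (algebraMap R₀ C₀))
      (g₀ ≫ S₀.isoSpec.hom) := h3.paste_horiz e1
  have hft : Algebra.FiniteType R₀ C₀ := by
    have h7 : LocallyOfFiniteType (spm (algebraMap R₀ C₀)) := by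
      have h8 : spm (algebraMap R₀ C₀) = X₀.isoSpec.inv ≫ f₀ ≫ S₀.isoSpec.hom := by
        rw [Iso.eq_inv_comp]; exact e1.w
      rw [h8]; infer_instance
    exact RingHom.finiteType_algebraMap.1 ((HasRingHomProperty.Spec_iff (P := @LocallyOfFiniteType)).1 h7)
  have hN₀ : IsNoetherianRing R₀ := Algebra.FiniteType.isNoetherianRing ℤ R₀
  have hred₀ : RedFib R₀ C₀ := by
    have h7 : GeometricallyReduced (spm (algebraMap R₀ C₀)) :=
      MorphismProperty.of_isPullback (P := @GeometricallyReduced)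
        (IsPullback.of_horiz_isIso (fst := X₀.isoSpec.inv) (snd := spm (algebraMap R₀ C₀)) (f := f₀)
          (g := S₀.isoSpec.inv) ⟨by rw [Iso.inv_comp_eq, ← Category.assoc, Iso.eq_comp_inv]; exact e1.w.symm⟩) h6
    exact redFib_of_fibRed (fibRed_of_geometricallyReduced _)
  obtain ⟨ρ, hρ⟩ : ∃ ρ : R₀ →+* R, spm ρ = g₀ ≫ S₀.isoSpec.hom :=
    ⟨(Spec.preimage (g₀ ≫ S₀.isoSpec.hom)).hom, Spec.map_preimage _⟩
  let _ : Algebra R₀ R := ρ.toAlgebra
  have hρ' : spm (algebraMap R₀ R) = g₀ ≫ S₀.isoSpec.hom := hρ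
  have e3 : IsPullback (g₀' ≫ X₀.isoSpec.hom) (spm (algebraMap R C)) (spm (algebraMap R₀ C₀))
      (spm (algebraMap R₀ R)) := by rw [hρ']; exact e2
  -- flatness of `R ⊗ C₀`
  have e4 : IsPullback (spm (Algebra.TensorProduct.includeRight : C₀ →ₐ[R₀] R ⊗[R₀] C₀).toRingHom)
      (spm (algebraMap R (R ⊗[R₀] C₀))) (spm (algebraMap R₀ C₀)) (spm (algebraMap R₀ R)) :=
    (isPullback_SpecMap_of_isPushout _ _ _ _ (CommRingCat.isPushout_tensorProduct R₀ R C₀)).flip
  have hfl : Module.Flat R (R ⊗[R₀] C₀) := by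
    have h7 : Flat (spm (algebraMap R C)) := (HasRingHomProperty.Spec_iff (P := @Flat)).2
      (RingHom.flat_algebraMap_iff.2 inferInstance)
    have h8 : Flat (spm (algebraMap R (R ⊗[R₀] C₀))) := by
      have h9 : spm (algebraMap R (R ⊗[R₀] C₀)) = (e4.isoIsPullback _ _ e3).hom ≫ spm (algebraMap R C) := by
        rw [IsPullback.isoIsPullback_hom_snd]
      rw [h9]; infer_instance
    exact RingHom.flat_algebraMap_iff.1 ((HasRingHomProperty.Spec_iff (P := @Flat)).1 h8)
  obtain ⟨R₂, i1, i2, i3, h7, h8, h9⟩ := FlatB.FlatDescGlobal.exists_flat_model (A := R₀) (B := C₀) (R := R)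
  have hN₂ : IsNoetherianRing R₂ := Algebra.FiniteType.isNoetherianRing R₀ R₂
  have e5 : IsPullback (spm (Algebra.TensorProduct.includeRight : C₀ →ₐ[R₀] R₂ ⊗[R₀] C₀).toRingHom)
      (spm (algebraMap R₂ (R₂ ⊗[R₀] C₀))) (spm (algebraMap R₀ C₀)) (spm (algebraMap R₀ R₂)) :=
    (isPullback_SpecMap_of_isPushout _ _ _ _ (CommRingCat.isPushout_tensorProduct R₀ R₂ C₀)).flip
  have e6 : spm (algebraMap R₀ R) = spm (algebraMap R₂ R) ≫ spm (algebraMap R₀ R₂) := by
    rw [← spm_comp, ← IsScalarTower.algebraMap_eq]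
  rw [e6] at e3
  refine ⟨R₂, R₂ ⊗[R₀] C₀, inferInstance, inferInstance, inferInstance, hN₂, h9, hred₀.baseChange R₂,
    spm (algebraMap R₂ R), e5.lift (g₀' ≫ X₀.isoSpec.hom) (spm (algebraMap R C) ≫ spm (algebraMap R₂ R)) (by
      rw [e3.w, Category.assoc]), ?_⟩
  refine IsPullback.of_right (h₁₂ := spm (Algebra.TensorProduct.includeRight : C₀ →ₐ[R₀] R₂ ⊗[R₀] C₀).toRingHom)
    (v₁₃ := spm (algebraMap R₀ C₀)) (h₂₂ := spm (algebraMap R₀ R₂)) ?_ (e5.lift_snd _ _ _) e5
  rw [e5.lift_fst]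
  exact e3

theorem hasModel_of_locallyOfFinitePresentation {X Y : Scheme.{u}} (g : X ⟶ Y) [Flat g]
    [LocallyOfFinitePresentation g] (h : FibRed g) (x₀ : X) : HasModel g x₀ := by
  obtain ⟨R, C, i1, i2, i3, j, i4, i, i5, hsq, hx, hfl, hf⟩ := exists_chart g h x₀
  have hfp : Algebra.FinitePresentation R C := by
    have h1 : LocallyOfFinitePresentation (spm (algebraMap R C) ≫ i) := by rw [hsq]; infer_instance
    have h2 : LocallyOfFinitePresentation (spm (algebraMap R C)) :=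
      of_comp_openImmersion (P := @LocallyOfFinitePresentation) _ i h1
    exact RingHom.finitePresentation_algebraMap.1
      ((HasRingHomProperty.Spec_iff (P := @LocallyOfFinitePresentation)).1 h2)
  obtain ⟨R₂, C₂, k1, k2, k3, k4, k5, k6, v, c, hpb⟩ := exists_approx hf
  exact ⟨_, _, j, i4, i, i5, spm (algebraMap R C), hsq, hx, R₂, C₂, k1, k2, k3, k4, k5, k6, v, c, hpb⟩

end Groth.Agent.Etbc.H192.Model
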