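import Groth.Agent.Etbc.H192.Model

/-!
# Universal local 0-acyclicity from Noetherian local models
-/

set_option autoImplicit false

universe u

open TensorProduct IsLocalRing CategoryTheory CategoryTheory.Limits AlgebraicGeometry

namespace Groth.Agent.Etbc.H192.ULoc

open Groth.Agent.Etrest.StrictLoc Groth.Agent.Sga1.UlaSL Groth.Agent.Etbc.H192.ZeroAcyc Model

/-- flat local homomorphisms induce surjections on spectra. -/
theorem surjective_spm {A B : Type u} [CommRing A] [IsLocalRing A] [CommRing B] [IsLocalRing B] (β : A →+* B)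
    [IsLocalHom β] [Flat (spm β)] : Surjective (spm β) := by
  let _ : Algebra A B := β.toAlgebra
  have h1 : Module.Flat A B := (HasRingHomProperty.Spec_iff (P := @Flat)).1 ‹Flat (spm β)›
  have h2 : IsLocalHom (algebraMap A B) := inferInstanceAs (IsLocalHom β)
  have h3 : Module.FaithfullyFlat A B := Module.FaithfullyFlat.of_flat_of_isLocalHom
  exact ⟨PrimeSpectrum.comap_surjective_of_faithfullyFlat⟩

theorem isZeroAcyclic_spm {A B : Type u} [CommRing A] [IsLocalRing A] [CommRing B] [IsLocalRing B] (β : A →+* B)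
    [IsLocalHom β] [Flat (spm β)] (hc : SepGeomConnected (spm β)) : EtAcyc.IsZeroAcyclic (spm β) := by
  have := surjective_spm β
  exact isZeroAcyclic_of_flat _ hc

/-- A morphism with Noetherian local models everywhere is universally locally 0-acyclic. -/
theorem isULocZeroAcyclic_of_hasModel {X Y : Scheme.{u}} (g : X ⟶ Y) (hm : ∀ x₀ : X, HasModel g x₀) :
    EtAcyc.IsULocZeroAcyclic g := by
  intro X₁ Y₁ g₁ b' b hsq x RY RX _ _ _ _ _ _ _ _ _ _ _ _ hc
  obtain ⟨U, V, j, i1, i, i2, g', hg', hx, R, C, k1, k2, k3, k4, k5, k6, v, c, hpb⟩ := hm (b' x)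
  have hcl : Hens2.specOf X₁ x RX (closedPoint RX) = x :=
    Groth.Agent.Etrest.VCBaseChange.specOf_closedPoint X₁ x RX
  obtain ⟨h1, h2⟩ := Glue.main hsq (isStrictLoc_specOf Y₁ (g₁ x) RY) (isStrictLoc_specOf X₁ x RX)
    (algebraMap RY RX) ((Groth.Agent.Etrest.VCBaseChange.specOf_comm g₁ x RY RX (algebraMap RY RX)).1 hc)
    j i g' hg' (by rw [hcl]; exact hx) k6 v c hpb
  exact isZeroAcyclic_spm (algebraMap RY RX) h2

end Groth.Agent.Etbc.H192.ULoc
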